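import Cfsg.Agent.ThreeSize7.Fit
import Cfsg.Agent.Lib.Frobenius.Nilpotent
import Cfsg.Agent.Lib.Frobenius.Kernel

/-!
# Nontrivial solvable radical: the contradiction
-/

set_option autoImplicit false
set_option linter.unusedSectionVars false
set_option linter.style.haveILetI false

namespace Cfsg.Agent.ThreeSize7

open scoped Pointwise
open Agent.Ito7 (cent mem_cent self_mem_cent cent_le_pow cent_mul)

universe u

variable {G : Type u} [Group G] [Finite G]

theorem centralizer_conj_invariant {H : Subgroup G} {e : G}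
    (he : e ∈ Subgroup.normalizer (H : Set G)) :
    e ∈ Subgroup.normalizer ((Subgroup.centralizer (H : Set G)) : Set G) := by
  have key : ∀ f : G, f ∈ Subgroup.normalizer (H : Set G) →
      ∀ g ∈ Subgroup.centralizer (H : Set G), f * g * f⁻¹ ∈ Subgroup.centralizer (H : Set G) := by
    intro f hf g hg
    refine Subgroup.mem_centralizer_iff.2 fun h hh => ?_
    have h1 : f⁻¹ * h * f ∈ H := by
      have := (Subgroup.mem_normalizer_iff.1 hf (f⁻¹ * h * f)).2 (by
        rw [show f * (f⁻¹ * h * f) * f⁻¹ = h by group]; exact hh)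
      exact this
    have h2 := Subgroup.mem_centralizer_iff.1 hg _ h1
    calc h * (f * g * f⁻¹) = f * ((f⁻¹ * h * f) * g) * f⁻¹ := by group
      _ = f * (g * (f⁻¹ * h * f)) * f⁻¹ := by rw [h2]
      _ = f * g * f⁻¹ * h := by group
  refine Subgroup.mem_normalizer_iff.2 fun g => ⟨key e he g, fun hg => ?_⟩
  have := key e⁻¹ (inv_mem he) _ hg
  rwa [show e⁻¹ * (e * g * e⁻¹) * e⁻¹⁻¹ = g by group] at this

/-- Counting the union of the conjugates of a normal subset. -/
theorem card_conj_union_le (H : Subgroup G) (S : Set G)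
    (hS : ∀ g ∈ Subgroup.normalizer (H : Set G), ∀ s ∈ S, g * s * g⁻¹ ∈ S) :
    {x : G | ∃ h : G, h * x * h⁻¹ ∈ S}.ncard ≤
      (Subgroup.normalizer (H : Set G)).index * S.ncard := by
  classical
  set N := Subgroup.normalizer (H : Set G)
  rw [← Nat.card_coe_set_eq, ← Nat.card_coe_set_eq, Subgroup.index_eq_card, ← Nat.card_prod]
  refine Nat.card_le_card_of_surjective
    (fun cs : (G ⧸ N) × S => (⟨cs.1.out * (cs.2 : G) * cs.1.out⁻¹, cs.1.out⁻¹, by
      simp [mul_assoc]⟩ : {x : G | ∃ h : G, h * x * h⁻¹ ∈ S})) fun x => ?_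
  obtain ⟨h, hh⟩ := x.2
  obtain ⟨w, hw⟩ := QuotientGroup.mk_out_eq_mul N h⁻¹
  refine ⟨((h⁻¹ : G), ⟨(w : G)⁻¹ * (h * (x : G) * h⁻¹) * w, ?_⟩), Subtype.ext ?_⟩
  · have := hS _ (inv_mem w.2) _ hh
    rwa [inv_inv] at this
  · show ((h⁻¹ : G) : G ⧸ N).out * _ * _ = (x : G)
    rw [hw]
    simp [mul_assoc]

/-- The situation with nontrivial radical. -/
structure FitData (G : Type u) [Group G] (a b c : ℕ) (R B : Subgroup G) : Prop where
  apart : Apart G a b c
  notSolv : ¬ Group.IsSolvable G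
  normal : R.Normal
  solv : Group.IsSolvable R
  max : ∀ N : Subgroup G, N.Normal → Group.IsSolvable N → N ≤ R
  ne_bot : R ≠ ⊥
  cardB : Nat.card B = a
  cycB : IsCyclic B
  comm : ∀ x ∈ B, ∀ y ∈ B, Commute x y
  cc : ∀ h ∈ B, h ≠ 1 → cent h = B
  cop : (Nat.card R).Coprime a

namespace FitData

variable {a b c : ℕ} {R B : Subgroup G} (D : FitData G a b c R B)
include D

theorem R_le {x : G} (hx : x ≠ 1) (hxa : n x = a) : R ≤ cent x := by
  haveI := D.normal
  exact D.apart.le_cent_a hx hxa D.cop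

theorem centralizer_R_le : Subgroup.centralizer (R : Set G) ≤ R := by
  haveI := D.normal
  obtain ⟨⟨v, hvR⟩, hv⟩ := Subgroup.ne_bot_iff_exists_ne_one.1 D.ne_bot
  refine D.max _ inferInstance (isSolvable_of_le (B := cent v) (fun g hg => ?_)
    (D.apart.types.isSolvable_cent (fun h => hv (Subtype.ext h))))
  exact mem_cent.2 (Subgroup.mem_centralizer_iff.1 hg v hvR).symm

theorem mem_R_of_a {x : G} (hx : x ≠ 1) (hxa : n x = a) : x ∈ R :=
  D.centralizer_R_le (Subgroup.mem_centralizer_iff.2 fun y hy =>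
    (mem_cent.1 (D.R_le hx hxa hy)).eq)

theorem ne_one_of_not_mem {g : G} (hg : g ∉ R) : g ≠ 1 := fun h => hg (h ▸ one_mem R)

theorem type_c {g : G} (hg : g ∉ R) {t i : ℕ} (ht : t.Prime) (hta : ¬ t ∣ a)
    (hgo : orderOf g = t ^ i) : n g = c := by
  have hg1 := D.ne_one_of_not_mem hg
  rcases D.apart.types.cases g hg1 with e | e | e
  · exact absurd (D.mem_R_of_a hg1 e) hg
  · exfalso
    have h1 := (cent g).orderOf_dvd_natCard (self_mem_cent g)
    rw [D.apart.card_cent_b hg1 e, hgo] at h1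
    have hi : i ≠ 0 := fun h => hg1 (orderOf_eq_one_iff.1 (by rw [hgo, h, pow_zero]))
    exact hta ((dvd_pow_self t hi).trans h1)
  · exact e

theorem exists_sylow_le {H : Subgroup G} {q : ℕ} [Fact q.Prime] (hH : ¬ q ∣ H.index) :
    ∃ Q : Sylow q G, (Q : Subgroup G) ≤ H := by
  obtain ⟨S⟩ := (inferInstance : Nonempty (Sylow q H))
  refine ⟨Sylow.ofCard ((S : Subgroup H).map H.subtype) ?_, Subgroup.map_subtype_le _⟩
  rw [Subgroup.card_map_of_injective H.subtype_injective, S.card_eq_multiplicity]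
  congr 1
  rw [← Subgroup.card_mul_index H, Nat.factorization_mul Nat.card_pos.ne'
    Subgroup.index_ne_zero_of_finite, Finsupp.add_apply,
    Nat.factorization_eq_zero_of_not_dvd hH, add_zero]

theorem exists_not_mem {t : ℕ} [Fact t.Prime] (Q : Sylow t G) (htR : t ∣ R.index) :
    ∃ g ∈ (Q : Subgroup G), g ∉ R ∧ ∃ i, orderOf g = t ^ i := by
  by_contra hc
  push Not at hc
  refine Q.not_dvd_index (htR.trans (Subgroup.index_dvd_of_le fun g hg => ?_))
  by_contra hgR
  obtain ⟨i, hi⟩ := KegelWielandt.orderOf_of_mem_pgroup Q.2 hg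
  exact hc g hg hgR i hi

/-- A normal subgroup containing `B` whose image in `G ⧸ R` has at most one prime outside `a`. -/
theorem false_of_primes {M : Subgroup G} [M.Normal] (hBM : B ≤ M)
    (hq : Group.IsSolvable (G ⧸ M)) {p : ℕ} (hp : p.Prime) (hpa : ¬ p ∣ a)
    (hs : ∀ s : ℕ, s.Prime → s ∣ Nat.card M → s ∣ R.index → s ∣ a ∨ s = p) : False := by
  haveI := D.normal
  haveI := D.solv
  haveI := Fact.mk hp
  have T := D.apart.types
  set π := QuotientGroup.mk' R with hπ
  set K := M.map π with hK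
  -- the image of `B`
  have hBcard : Nat.card (B.map π) = a := by
    rw [← D.cardB]
    refine (Nat.card_congr (Equiv.ofBijective (π.subgroupMap B) ⟨?_, π.subgroupMap_surjective B⟩)).symm
    rw [injective_iff_map_eq_one]
    intro y hy
    have h1 : (y : G) ∈ R := (QuotientGroup.eq_one_iff _).1 (congrArg Subtype.val hy)
    exact Subtype.ext (orderOf_eq_one_iff.1 (Nat.eq_one_of_dvd_coprimes D.cop
      (R.orderOf_dvd_natCard h1) (D.cardB ▸ B.orderOf_dvd_natCard y.2)))
  have hBK : B.map π ≤ K := Subgroup.map_mono hBM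
  have hKdvd : Nat.card K ∣ R.index := by
    rw [Subgroup.index_eq_card]; exact Subgroup.card_subgroup_dvd_card K
  have hKM : Nat.card K ∣ Nat.card M := Subgroup.card_map_dvd M π
  have hidx : Nat.card R * R.index = a * b := by rw [Subgroup.card_mul_index, D.apart.card_eq]
  obtain ⟨P⟩ := (inferInstance : Nonempty (Sylow p K))
  haveI hKs : Group.IsSolvable K := by
    refine isSolvable_of_card_mul ((B.map π).subgroupOf K) P ?_ P.2.isNilpotent ?_ ?_
    · haveI : IsMulCommutative ((B.map π).subgroupOf K) := ⟨⟨fun x y => by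
        obtain ⟨x', hx', hx⟩ := x.2
        obtain ⟨y', hy', hy⟩ := y.2
        refine Subtype.ext (Subtype.ext ?_)
        show ((x : K) : G ⧸ R) * ((y : K) : G ⧸ R) = ((y : K) : G ⧸ R) * ((x : K) : G ⧸ R)
        rw [show ((x : K) : G ⧸ R) = π x' from hx.symm, show ((y : K) : G ⧸ R) = π y' from hy.symm,
          ← map_mul, ← map_mul, (D.comm x' hx' y' hy').eq]⟩⟩
      letI : CommGroup ((B.map π).subgroupOf K) := IsMulCommutative.instCommGroup
      infer_instance
    · rw [Nat.card_congr (Subgroup.subgroupOfEquivOfLe hBK).toEquiv, hBcard, P.card_eq_multiplicity]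
      exact Nat.Coprime.pow_right _ (hp.coprime_iff_not_dvd.2 hpa).symm
    · rw [Nat.card_congr (Subgroup.subgroupOfEquivOfLe hBK).toEquiv, hBcard, P.card_eq_multiplicity]
      refine Nat.eq_of_factorization_eq (mul_ne_zero T.a_pos.ne' (pow_ne_zero _ hp.ne_zero))
        Nat.card_pos.ne' fun s => ?_
      rw [Nat.factorization_mul T.a_pos.ne' (pow_ne_zero _ hp.ne_zero), Finsupp.add_apply,
        hp.factorization_pow, Finsupp.single_apply]
      by_cases hsp : p = s
      · subst hsp
        rw [if_pos rfl, Nat.factorization_eq_zero_of_not_dvd hpa, zero_add]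
      rw [if_neg hsp, add_zero]
      have hle : a.factorization s ≤ (Nat.card K).factorization s :=
        (Nat.factorization_le_iff_dvd T.a_pos.ne' Nat.card_pos.ne').2
          (hBcard ▸ Subgroup.card_dvd_of_le hBK) s
      refine le_antisymm hle ?_
      by_cases hsK : s ∣ Nat.card K
      swap
      · simp [Nat.factorization_eq_zero_of_not_dvd hsK]
      by_cases hsprime : s.Prime
      swap
      · simp [Nat.factorization_eq_zero_of_not_prime _ hsprime]
      rcases hs s hsprime (hsK.trans hKM) (hsK.trans hKdvd) with hsa | hsp'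
      swap
      · exact absurd hsp'.symm hsp
      have h1 : (Nat.card K).factorization s ≤ R.index.factorization s :=
        (Nat.factorization_le_iff_dvd Nat.card_pos.ne' Subgroup.index_ne_zero_of_finite).2 hKdvd s
      have h2 := congrArg (fun m : ℕ => m.factorization s) hidx
      simp only [Nat.factorization_mul Nat.card_pos.ne' Subgroup.index_ne_zero_of_finite,
        Nat.factorization_mul T.a_pos.ne' T.b_pos.ne', Finsupp.add_apply] at h2
      have h3 : b.factorization s = 0 := Nat.factorization_eq_zero_of_not_dvd fun h =>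
        hsprime.not_dvd_one (T.cop ▸ Nat.dvd_gcd hsa h)
      omega
  haveI : Group.IsSolvable M := by
    let f : M →* K := π.subgroupMap M
    haveI : Group.IsSolvable (R ⊓ M : Subgroup G) := isSolvable_of_le inf_le_left D.solv
    refine Group.isSolvable_of_ker_le_range
      (Subgroup.inclusion (inf_le_right : R ⊓ M ≤ M)) f fun x hx => ?_
    exact ⟨⟨x, Subgroup.mem_inf.2
      ⟨(QuotientGroup.eq_one_iff _).1 (congrArg Subtype.val (MonoidHom.mem_ker.1 hx)), x.2⟩⟩, rfl⟩
  exact D.notSolv (isSolvable_of_normal M inferInstance hq)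

/-- `p` is a bad prime: it divides `|G : R|` and every class of type `c`. -/
def Bad (_ : FitData G a b c R B) (p : ℕ) : Prop := p.Prime ∧ ¬ p ∣ a ∧ p ∣ R.index ∧ p ∣ c

theorem exists_type_a_central {p : ℕ} [Fact p.Prime] (hp : D.Bad p) (P : Sylow p G) :
    ∃ x ∈ (P : Subgroup G), orderOf x = p ∧ n x = a ∧ (P : Subgroup G) ≤ cent x := by
  obtain ⟨g, hg, hgR, -⟩ := D.exists_not_mem P hp.2.2.1
  haveI : Nontrivial (P : Subgroup G) := ⟨⟨g, hg⟩, 1, fun e =>
    D.ne_one_of_not_mem hgR (congrArg Subtype.val e)⟩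
  haveI := P.2.center_nontrivial
  have hd : p ∣ Nat.card (Subgroup.center (P : Subgroup G)) := by
    obtain ⟨k, hk⟩ := (P.2.to_subgroup (Subgroup.center (P : Subgroup G))).exists_card_eq
    have h1 := Finite.one_lt_card (α := Subgroup.center (P : Subgroup G))
    rw [hk] at h1 ⊢
    exact dvd_pow_self p (by rintro rfl; simp at h1)
  obtain ⟨⟨x, hxc⟩, hx⟩ := exists_prime_orderOf_dvd_card' p hd
  rw [Subgroup.orderOf_mk, ← Subgroup.orderOf_coe] at hx
  have hle : (P : Subgroup G) ≤ cent (x : G) := fun s hs => mem_cent.2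
    (congrArg Subtype.val (Subgroup.mem_center_iff.1 hxc ⟨s, hs⟩))
  refine ⟨x, x.2, hx, ?_, hle⟩
  have hx1 := Ito7.ne_one_of_order hp.1 hx
  have hnd : ¬ p ∣ n (x : G) := fun h => P.not_dvd_index (h.trans (Subgroup.index_dvd_of_le hle))
  rcases D.apart.types.cases _ hx1 with e | e | e
  · exact e
  · exact absurd e (D.apart.not_b_of_order hp.1 hx hp.2.1)
  · exact absurd (e ▸ hp.2.2.2) hnd

/-- Two bad primes give a Frobenius structure, hence solvability. -/
theorem bad_unique {p q : ℕ} (hp : D.Bad p) (hq : D.Bad q) : p = q := by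
  by_contra hpq
  haveI := D.normal
  haveI := Fact.mk hp.1
  haveI := Fact.mk hq.1
  have T := D.apart.types
  obtain ⟨P⟩ := (inferInstance : Nonempty (Sylow p G))
  obtain ⟨x, -, hxo, hxa, -⟩ := D.exists_type_a_central hp P
  have hx1 := Ito7.ne_one_of_order hp.1 hxo
  set C := cent x with hC
  obtain ⟨Q, hQC⟩ := D.exists_sylow_le (H := C) (q := q)
    (by show ¬ q ∣ n x; rw [hxa]; exact hq.2.1)
  obtain ⟨y, hyQ, hyo, hya, hQy⟩ := D.exists_type_a_central hq Q
  have hy1 := Ito7.ne_one_of_order hq.1 hyo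
  have hxy : Commute x y := (mem_cent.1 (hQC hyQ)).symm
  have hcop : (orderOf x).Coprime (orderOf y) := by
    rw [hxo, hyo]; exact (Nat.coprime_primes hp.1 hq.1).2 hpq
  have hle := cent_mul hxy hcop
  have hm : n (x * y) = a := by
    have hnd : ¬ q ∣ n (x * y) := fun h => Q.not_dvd_index
      (h.trans (Subgroup.index_dvd_of_le (hle.ge.trans' (le_inf hQC hQy))))
    have hd := (Types.dvd_mul_coprime T hxy hcop).1
    rw [hxa] at hd
    rcases T.cases _ (Ito7.mul_ne_one_of_coprime hx1 hcop) with e | e | e <;> rw [e] at hd hnd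
    exacts [e, absurd hd T.nab, absurd hq.2.2.2 hnd]
  have hCy : cent y = C :=
    (cent_eq_of_le (hle.le.trans inf_le_right) (hm.trans hya.symm)).symm.trans
      (cent_eq_of_le (hle.le.trans inf_le_left) (hm.trans hxa.symm))
  have hCcard : Nat.card C = b := D.apart.card_cent_a hx1 hxa
  haveI := T.isSolvable_cent hx1
  -- the normalizer of `C` is `C`
  have hnorm : ∀ h ∈ Subgroup.normalizer (C : Set G), h ∈ C := by
    by_contra hc
    push Not at hc
    obtain ⟨h₀, hh₀, hh₀C⟩ := hc
    set N := Subgroup.normalizer (C : Set G) with hN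
    have hrel : C.relIndex N ≠ 1 := fun h => hh₀C (Subgroup.relIndex_eq_one.1 h hh₀)
    obtain ⟨s, hs, hsd⟩ := Nat.exists_prime_and_dvd hrel
    have hsa : s ∣ a := by
      have h1 := Subgroup.relIndex_mul_index (Subgroup.le_normalizer : C ≤ N)
      rw [show C.index = n x from rfl, hxa] at h1
      exact h1 ▸ hsd.trans (dvd_mul_right _ _)
    obtain ⟨h, hhN, hho⟩ := exists_prime_order N hs
      (hsd.trans (Subgroup.relIndex_dvd_card C N))
    have hh1 := Ito7.ne_one_of_order hs hho
    have hhb := D.apart.type_b_of_order hs hsa hh1 ⟨1, by rw [hho, pow_one]⟩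
    refine D.notSolv (isSolvable_of_card_mul B C ?_ ?_ ?_ ?_)
    · haveI : IsMulCommutative B := ⟨⟨fun x y => Subtype.ext (D.comm _ x.2 _ y.2).eq⟩⟩
      letI : CommGroup B := IsMulCommutative.instCommGroup
      infer_instance
    · let φ : MulAut C := C.normalizerMonoidHom ⟨h, hhN⟩
      refine Frobenius.isNilpotent_of_fixedPointFree C φ ?_ hs ?_
      · intro g hg
        have hg' : h * (g : G) * h⁻¹ = g := congrArg Subtype.val hg
        have hgc : (g : G) ∈ cent h := mem_cent.2 (mul_inv_eq_iff_eq_mul.1 hg').symm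
        have h1 := (cent h).orderOf_dvd_natCard hgc
        have h2 := C.orderOf_dvd_natCard g.2
        rw [D.apart.card_cent_b hh1 hhb] at h1
        rw [hCcard] at h2
        exact Subtype.ext (orderOf_eq_one_iff.1 (Nat.eq_one_of_dvd_coprimes T.cop h1 h2))
      · show C.normalizerMonoidHom ⟨h, hhN⟩ ^ s = 1
        have h1 : (⟨h, hhN⟩ : N) ^ s = 1 := Subtype.ext (by
          show h ^ s = 1
          rw [← hho, pow_orderOf_eq_one])
        rw [← map_pow]
        erw [h1]
        exact map_one _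
    · rw [D.cardB, hCcard]; exact T.cop
    · rw [D.cardB, hCcard, D.apart.card_eq]
  -- the intersections with the conjugates lie in `R`
  have hinter : ∀ h : G, h ∉ C → ∀ g ∈ C, h⁻¹ * g * h ∈ C → g ∈ R := by
    intro h hh g hg hg'
    set x' := h * x * h⁻¹ with hx'
    set y' := h * y * h⁻¹ with hy'
    have hxa' : n x' = a := (Ito7.index_cent_conj h x).trans hxa
    have hya' : n y' = a := (Ito7.index_cent_conj h y).trans hya
    have hx'1 : x' ≠ 1 := fun e => hx1 (conj_eq_one_iff.1 e)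
    have hy'1 : y' ≠ 1 := fun e => hy1 (conj_eq_one_iff.1 e)
    have hconj : ∀ {z : G}, cent z = C → cent (h * z * h⁻¹) = cent x' := by
      intro z hz
      ext k
      have e : k = h * (h⁻¹ * k * h) * h⁻¹ := by group
      rw [mem_cent, mem_cent, hx', e, Commute.conj_iff, Commute.conj_iff, ← mem_cent, ← mem_cent, hz]
    have hCy' : cent y' = cent x' := hconj hCy
    have hne : cent x' ≠ C := by
      intro e
      refine hh (hnorm h (Subgroup.mem_normalizer_iff.2 fun k => ?_))
      show k ∈ C ↔ h * k * h⁻¹ ∈ C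
      conv_rhs => rw [← e, mem_cent, hx', Commute.conj_iff]
      rw [hC, mem_cent]
    have hxy' : Commute x y' := by
      refine (mem_cent.1 ?_).symm
      exact D.R_le hx1 hxa (D.mem_R_of_a hy'1 hya')
    have hcop' : (orderOf x).Coprime (orderOf y') := by
      rw [hy', show orderOf (h * y * h⁻¹) = orderOf y from MulEquiv.orderOf_eq (MulAut.conj h) y]
      exact hcop
    have hle' := cent_mul hxy' hcop'
    have hm' : n (x * y') = c := by
      have hd := (Types.dvd_mul_coprime T hxy' hcop').1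
      rw [hxa] at hd
      rcases T.cases _ (Ito7.mul_ne_one_of_coprime hx1 hcop') with e | e | e <;> rw [e] at hd
      · refine absurd ?_ hne
        exact hCy'.symm.trans ((cent_eq_of_le (hle'.le.trans inf_le_right) (e.trans hya'.symm)).symm.trans
          (cent_eq_of_le (hle'.le.trans inf_le_left) (e.trans hxa.symm)))
      · exact absurd hd T.nab
      · exact e
    by_contra hgR
    obtain ⟨t, i, k, ht, hk, hkR⟩ := exists_part_not_mem hgR
    have hgx' : g ∈ cent x' := by
      rw [mem_cent, hx', show g = h * (h⁻¹ * g * h) * h⁻¹ by group, Commute.conj_iff]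
      exact mem_cent.1 hg'
    set u := g ^ k with hu
    have hu1 := D.ne_one_of_not_mem hkR
    have huC : u ∈ C := pow_mem hg k
    have hux' : u ∈ cent x' := pow_mem hgx' k
    have hi0 : i ≠ 0 := fun e => hu1 (orderOf_eq_one_iff.1 (by rw [hk, e, pow_zero]))
    have hta : ¬ t ∣ a := fun h => ht.not_dvd_one (T.cop ▸ Nat.dvd_gcd h
      (hCcard ▸ (dvd_pow_self t hi0).trans (hk ▸ C.orderOf_dvd_natCard huC)))
    have huc := D.type_c hkR ht hta hk
    have hcomp : ∀ (z : G) (s : ℕ), s.Prime → t ≠ s → orderOf z = s → Commute u z →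
        cent u ≤ cent z := fun z s hs hts hz hc => D.apart.cent_le_of_c hu1 huc hc
      (by rw [hk, hz]; exact Nat.Coprime.pow_left i ((Nat.coprime_primes ht hs).2 hts))
    have hox : ∀ z : G, orderOf (h * z * h⁻¹) = orderOf z := fun z =>
      MulEquiv.orderOf_eq (MulAut.conj h) z
    have huK : cent u ≤ cent x ⊓ cent y' := by
      by_cases htp : t = p
      · have h1 := hcomp y q hq.1 (htp ▸ hpq) hyo (mem_cent.1 (hCy.symm ▸ huC : u ∈ cent y))
        have h2 := hcomp y' q hq.1 (htp ▸ hpq) ((hox y).trans hyo)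
          (mem_cent.1 (hCy'.symm ▸ hux' : u ∈ cent y'))
        exact le_inf (h1.trans hCy.le) h2
      · have h1 := hcomp x p hp.1 htp hxo (mem_cent.1 huC)
        have h2 := hcomp x' p hp.1 htp ((hox x).trans hxo) (mem_cent.1 hux')
        exact le_inf h1 (h2.trans hCy'.ge)
    rw [← hle'] at huK
    have he := cent_eq_of_le huK (huc.trans hm'.symm)
    refine hkR (D.centralizer_R_le (Subgroup.mem_centralizer_iff.2 fun r hr => ?_))
    refine (mem_cent.1 (?_ : r ∈ cent u)).eq
    rw [he, hle']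
    exact ⟨D.R_le hx1 hxa hr, D.R_le hy'1 hya' hr⟩
  -- Frobenius
  set π := QuotientGroup.mk' R with hπ
  have hRC : R ≤ C := D.R_le hx1 hxa
  have hcomap : (C.map π).comap π = C := by
    rw [Subgroup.comap_map_eq, QuotientGroup.ker_mk', sup_eq_left.2 hRC]
  have hCi : (C.map π).index = a := by
    have h1 := Subgroup.index_comap_of_surjective (C.map π) (f := π) (QuotientGroup.mk'_surjective R)
    rw [hcomap] at h1
    rw [← h1]; exact hxa
  have hF : Cfsg.IsFrobeniusComplement (C.map π) := by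
    refine ⟨fun h => ?_, fun h => ?_, fun g hg => ?_⟩
    · rw [h, Subgroup.index_bot, ← Subgroup.index_eq_card] at hCi
      exact hp.2.1 (hCi ▸ hp.2.2.1)
    · rw [h, Subgroup.index_top] at hCi
      exact T.one_a hCi.symm
    · obtain ⟨g₀, rfl⟩ := QuotientGroup.mk'_surjective R g
      rw [Subgroup.eq_bot_iff_forall]
      rintro z ⟨hz, hz'⟩
      obtain ⟨z₀, hz₀, rfl⟩ := hz
      replace hz' := Frobenius.mem_conj_smul.1 hz'
      have h1 : g₀⁻¹ * z₀ * g₀ ∈ C := by
        rw [← hcomap, Subgroup.mem_comap, map_mul, map_mul, map_inv]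
        exact hz'
      exact (QuotientGroup.eq_one_iff z₀).2
        (hinter g₀ (fun h => hg (Subgroup.mem_map_of_mem _ h)) z₀ hz₀ h1)
  obtain ⟨N, -, hN, hcompl⟩ := Frobenius.exists_frobeniusKernel_subgroup hF
  haveI := hN
  have hNc : Nat.card N = a := by
    have h1 := hcompl.card_mul_card
    rw [← Subgroup.card_mul_index (C.map π), hCi, mul_comm] at h1
    exact Nat.eq_of_mul_eq_mul_left Nat.card_pos h1
  have hNB : B.map π ≤ N := by
    rintro _ ⟨z, hz, rfl⟩
    rw [← QuotientGroup.eq_one_iff (N := N), ← orderOf_eq_one_iff]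
    have hCd : Nat.card (C.map π) ∣ b := hCcard ▸ Subgroup.card_map_dvd C π
    have hNi : N.index ∣ b := by rwa [hcompl.symm.index_eq_card]
    refine Nat.eq_one_of_dvd_coprimes T.cop
      ((orderOf_map_dvd (QuotientGroup.mk' N) (π z)).trans ((orderOf_map_dvd π z).trans
        (D.cardB ▸ B.orderOf_dvd_natCard hz))) ?_
    exact (orderOf_dvd_natCard _).trans (by rwa [← Subgroup.index_eq_card])
  have hBc : Nat.card (B.map π) = a := by
    rw [← D.cardB]
    refine (Nat.card_congr (Equiv.ofBijective (π.subgroupMap B) ⟨?_, π.subgroupMap_surjective B⟩)).symm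
    rw [injective_iff_map_eq_one]
    intro y hy
    have h1 : (y : G) ∈ R := (QuotientGroup.eq_one_iff _).1 (congrArg Subtype.val hy)
    exact Subtype.ext (orderOf_eq_one_iff.1 (Nat.eq_one_of_dvd_coprimes D.cop
      (R.orderOf_dvd_natCard h1) (D.cardB ▸ B.orderOf_dvd_natCard y.2)))
  have hNe := Subgroup.eq_of_le_of_card_ge hNB (hNc.trans hBc.symm).le
  haveI : Group.IsSolvable N := by
    rw [← hNe]
    haveI := D.cycB
    haveI : IsMulCommutative B := ⟨⟨fun x y => Subtype.ext (D.comm _ x.2 _ y.2).eq⟩⟩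
    letI : CommGroup B := IsMulCommutative.instCommGroup
    exact Group.isSolvable_of_surjective (f := π.subgroupMap B) (π.subgroupMap_surjective B)
  refine D.notSolv (isSolvable_of_normal R D.solv (isSolvable_of_normal N inferInstance ?_))
  let f : C →* (G ⧸ R) ⧸ N := ((QuotientGroup.mk' N).comp π).comp C.subtype
  refine Group.isSolvable_of_surjective (f := f) fun w => ?_
  obtain ⟨v, rfl⟩ := QuotientGroup.mk'_surjective N w
  obtain ⟨⟨⟨m, hm⟩, ⟨k, hk⟩⟩, hv⟩ := hcompl.2 v
  obtain ⟨k₀, hk₀, rfl⟩ := hk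
  refine ⟨⟨k₀, hk₀⟩, ?_⟩
  show QuotientGroup.mk' N (π k₀) = QuotientGroup.mk' N v
  rw [← hv, map_mul]
  show _ = (m : (G ⧸ R) ⧸ N) * _
  rw [(QuotientGroup.eq_one_iff m).2 hm, one_mul]

/-- A good prime: it divides `|G : R|` but neither `a` nor `c`. -/
def Good (_ : FitData G a b c R B) (q : ℕ) : Prop :=
  q.Prime ∧ ¬ q ∣ a ∧ q ∣ R.index ∧ ¬ q ∣ c

theorem exists_other {q : ℕ} (hq : D.Good q) :
    ∃ t : ℕ, t.Prime ∧ t ≠ q ∧ ¬ t ∣ a ∧ t ∣ R.index := by
  by_contra hc
  push Not at hc
  refine D.false_of_primes (M := ⊤) le_top ?_ hq.1 hq.2.1 fun s hs _ hsR => ?_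
  · haveI := QuotientGroup.subsingleton_quotient_top (G := G)
    infer_instance
  · by_cases hsa : s ∣ a
    · exact Or.inl hsa
    · exact Or.inr (by
        by_contra hne
        exact hc s hs hne hsa hsR)

theorem central_in_cent {g u : G} {t i s j : ℕ} (ht : t.Prime) (hs : s.Prime) (hts : t ≠ s)
    (hg : g ∉ R) (hta : ¬ t ∣ a) (hgo : orderOf g = t ^ i) (huo : orderOf u = s ^ j)
    (hc : Commute g u) : cent g ≤ cent u :=
  D.apart.cent_le_of_c (D.ne_one_of_not_mem hg) (D.type_c hg ht hta hgo) hc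
    (by rw [hgo, huo]; exact Nat.Coprime.pow i j ((Nat.coprime_primes ht hs).2 hts))

theorem sylow_comm {q : ℕ} [Fact q.Prime] (hq : D.Good q) (Q : Sylow q G) :
    ∀ u ∈ (Q : Subgroup G), ∀ v ∈ (Q : Subgroup G), Commute u v := by
  obtain ⟨t, ht, htq, hta, htR⟩ := D.exists_other hq
  haveI := Fact.mk ht
  obtain ⟨Tt⟩ := (inferInstance : Nonempty (Sylow t G))
  obtain ⟨g, -, hg, i, hgo⟩ := D.exists_not_mem Tt htR
  obtain ⟨Q', hQ'⟩ := D.exists_sylow_le (H := cent g) (q := q)
    (by show ¬ q ∣ n g; rw [D.type_c hg ht hta hgo]; exact hq.2.2.2)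
  have hQ'c : ∀ u ∈ (Q' : Subgroup G), ∀ v ∈ (Q' : Subgroup G), Commute u v := by
    intro u hu v hv
    obtain ⟨j, hj⟩ := KegelWielandt.orderOf_of_mem_pgroup Q'.2 hv
    exact mem_cent.1 ((D.central_in_cent ht hq.1 htq hg hta hgo hj
      (mem_cent.1 (hQ' hv)).symm) (hQ' hu))
  obtain ⟨k, hk⟩ := MulAction.exists_smul_eq G Q' Q
  intro u hu v hv
  rw [← hk, Sylow.coe_subgroup_smul, Frobenius.mem_conj_smul] at hu hv
  have := (Commute.conj_iff k).2 (hQ'c _ hu _ hv)
  simpa [mul_assoc] using this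

theorem cent_eq_centralizer {q : ℕ} [Fact q.Prime] (hq : D.Good q) (Q : Sylow q G) {u : G}
    (hu : u ∈ (Q : Subgroup G)) (huR : u ∉ R) :
    cent u = Subgroup.centralizer ((Q : Subgroup G) : Set G) := by
  classical
  obtain ⟨j, hj⟩ := KegelWielandt.orderOf_of_mem_pgroup Q.2 hu
  have hQu : (Q : Subgroup G) ≤ cent u := fun v hv => mem_cent.2 (D.sylow_comm hq Q v hv u hu)
  have hcen : ∀ s : ℕ, s.Prime → s ≠ q → ∀ v ∈ cent u, (∃ i, orderOf v = s ^ i) →
      cent u ≤ cent v := fun s hs hsq v hv ⟨i, hi⟩ =>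
    D.central_in_cent hq.1 hs (Ne.symm hsq) huR hq.2.1 hj hi (mem_cent.1 hv).symm
  -- elements commuting with `Q` and with all elements of the centralizer
  set X := cent u with hX
  set Y := Subgroup.center X ⊔ (Q : Subgroup G).subgroupOf X with hY
  have hYtop : Y = ⊤ := by
    rw [← Subgroup.index_eq_one]
    by_contra hne
    obtain ⟨s, hs, hsd⟩ := Nat.exists_prime_and_dvd hne
    haveI := Fact.mk hs
    by_cases hsq : s = q
    · subst hsq
      refine Q.not_dvd_index ((hsd.trans (Subgroup.index_dvd_of_le le_sup_right)).trans ?_)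
      exact Dvd.intro _ (Subgroup.relIndex_mul_index hQu)
    · obtain ⟨S⟩ := (inferInstance : Nonempty (Sylow s X))
      refine S.not_dvd_index (hsd.trans (Subgroup.index_dvd_of_le fun v hv =>
        Subgroup.mem_sup_left (Subgroup.mem_center_iff.2 fun w => ?_)))
      obtain ⟨i, hi⟩ := KegelWielandt.orderOf_of_mem_pgroup S.2 hv
      exact Subtype.ext (mem_cent.1 (hcen s hs hsq (v : G) v.2
        ⟨i, by rw [Subgroup.orderOf_coe, hi]⟩ w.2)).eq
  refine le_antisymm (fun k hk => Subgroup.mem_centralizer_iff.2 fun v hv => ?_)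
    fun k hk => mem_cent.2 (Subgroup.mem_centralizer_iff.1 hk u hu).symm
  obtain ⟨z, hz, w, hw, hzw⟩ := Subgroup.mem_sup_of_normal_left.1
    (hYtop.symm ▸ Subgroup.mem_top (⟨k, hk⟩ : X) : (⟨k, hk⟩ : X) ∈ Y)
  have hkz : (z : G) * (w : G) = k := congrArg Subtype.val hzw
  have h1 : Commute v (z : G) :=
    congrArg Subtype.val (Subgroup.mem_center_iff.1 hz ⟨v, hQu hv⟩)
  have h2 : Commute v (w : G) := D.sylow_comm hq Q v hv _ hw
  exact hkz ▸ (h1.mul_right h2).eq

/-- The centralizers of prime power elements outside `R` of order prime to `a`. -/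
theorem cover {q : ℕ} [Fact q.Prime] (hq : D.Good q) (Q : Sylow q G) {g : G} (hg : g ∉ R)
    (hgc : n g = c) :
    ∃ h : G, h * g * h⁻¹ ∈ Subgroup.centralizer ((Q : Subgroup G) : Set G) := by
  obtain ⟨t, i, k, ht, hk, hkR⟩ := exists_part_not_mem hg
  haveI := Fact.mk ht
  have hu1 := D.ne_one_of_not_mem hkR
  have hi0 : i ≠ 0 := fun e => hu1 (orderOf_eq_one_iff.1 (by rw [hk, e, pow_zero]))
  have hta : ¬ t ∣ a := by
    intro h
    have hb := D.apart.type_b_of_order ht h hu1 ⟨i, hk⟩
    have hd := dvd_of_le (cent_le_pow g k)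
    rw [hgc, hb] at hd
    have h1 := D.apart.card_c_dvd hgc D.apart.types.exa.choose_spec.2
    exact D.apart.not_dvd_cent_a ht h D.apart.types.exa.choose_spec.1
      D.apart.types.exa.choose_spec.2 (((dvd_pow_self t hi0).trans
        (hk ▸ (cent g).orderOf_dvd_natCard (pow_mem (self_mem_cent g) k))).trans h1)
  have huc := D.type_c hkR ht hta hk
  have hu : cent g = cent (g ^ k) := cent_eq_of_le (cent_le_pow g k) (hgc.trans huc.symm)
  -- a conjugate of `g ^ k` centralises a conjugate of `Q`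
  obtain ⟨v, hvQ, hvR, -⟩ := D.exists_not_mem Q hq.2.2.1
  by_cases htq : t = q
  · subst htq
    obtain ⟨h, hh⟩ := exists_conj_mem (i := i) ht Q.not_dvd_index (u := g ^ k) hk
    refine ⟨h, ?_⟩
    have hne : h * g ^ k * h⁻¹ ∉ R := fun hm => hkR (by
      have := D.normal.conj_mem _ hm h⁻¹
      rwa [show h⁻¹ * (h * g ^ k * h⁻¹) * h⁻¹⁻¹ = g ^ k by group] at this)
    rw [← D.cent_eq_centralizer hq Q hh hne, mem_cent, Commute.conj_iff]
    exact (Commute.refl g).pow_right k
  · obtain ⟨Q', hQ'⟩ := D.exists_sylow_le (H := cent (g ^ k)) (q := q)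
      (by show ¬ q ∣ n _; rw [huc]; exact hq.2.2.2)
    obtain ⟨h, hh⟩ := MulAction.exists_smul_eq G Q' Q
    refine ⟨h, ?_⟩
    have hv' : h⁻¹ * v * h ∈ (Q' : Subgroup G) := by
      rw [← hh, Sylow.coe_subgroup_smul, Frobenius.mem_conj_smul] at hvQ
      exact hvQ
    obtain ⟨j, hj⟩ := KegelWielandt.orderOf_of_mem_pgroup Q'.2 hv'
    have hle := D.central_in_cent ht hq.1 htq hkR hta hk hj (mem_cent.1 (hQ' hv')).symm
    have hm : g ∈ cent (h⁻¹ * v * h) := hle (hu ▸ self_mem_cent g)
    rw [← D.cent_eq_centralizer hq Q hvQ hvR, mem_cent]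
    have := (Commute.conj_iff h).2 (mem_cent.1 hm)
    rwa [show h * (h⁻¹ * v * h) * h⁻¹ = v by group] at this

theorem exists_normalizing_B : 2 * a ≤ Nat.card (Subgroup.normalizer (B : Set G)) := by
  classical
  have T := D.apart.types
  haveI := D.normal
  suffices h : ∃ e ∈ Subgroup.normalizer (B : Set G), e ∉ B by
    obtain ⟨e, he, heB⟩ := h
    rw [← D.cardB]
    have hlt : B < Subgroup.normalizer (B : Set G) :=
      lt_of_le_of_ne Subgroup.le_normalizer fun h => heB (h ▸ he)
    obtain ⟨k, hk⟩ := Subgroup.card_dvd_of_le hlt.le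
    have h2 : k ≠ 1 := fun h1 => hlt.ne (Subgroup.eq_of_le_of_card_ge hlt.le (by rw [hk, h1, mul_one]))
    have h3 : k ≠ 0 := fun h0 => Nat.card_pos.ne' (by rw [hk, h0, mul_zero])
    calc 2 * Nat.card B ≤ k * Nat.card B := Nat.mul_le_mul_right _ (by omega)
      _ = _ := by rw [hk, mul_comm]
  by_contra hc
  push Not at hc
  -- every Sylow subgroup for a prime of `a` is central in its normalizer
  have hcop : (Nat.card (commutator G)).Coprime a := by
    refine Nat.coprime_of_dvd fun s hs hsc hsa => ?_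
    haveI := Fact.mk hs
    obtain ⟨S, hSB⟩ := D.exists_sylow_le (H := B) (q := s)
      (D.apart.not_dvd_index_of_a D.cardB hs hsa)
    have hle : Subgroup.normalizer ((S : Subgroup G) : Set G) ≤
        Subgroup.centralizer ((S : Subgroup G) : Set G) := by
      intro e he
      obtain ⟨z, hz, hzo⟩ := exists_prime_order (S : Subgroup G) hs
        (S.dvd_card_of_dvd_card (hsa.trans T.a_dvd_card))
      have hz1 := Ito7.ne_one_of_order hs hzo
      have hSc : Subgroup.centralizer ((S : Subgroup G) : Set G) = B := le_antisymm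
        (fun k hk => D.cc z (hSB hz) hz1 ▸ mem_cent.2 (Subgroup.mem_centralizer_iff.1 hk z hz).symm)
        (fun k hk => Subgroup.mem_centralizer_iff.2 fun y hy => (D.comm y (hSB hy) k hk).eq)
      have heB := hc e (hSc ▸ centralizer_conj_invariant he)
      rw [hSc]
      exact heB
    have hcompl := MonoidHom.ker_transferSylow_isComplement' S hle
    set f := MonoidHom.transferSylow S hle
    haveI : IsMulCommutative (S : Subgroup G) :=
      ⟨⟨fun x y => Subtype.ext (D.comm _ (hSB x.2) _ (hSB y.2)).eq⟩⟩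
    have hk : commutator G ≤ f.ker := by
      rw [commutator_def, Subgroup.commutator_le]
      intro x _ y _
      rw [MonoidHom.mem_ker, map_commutatorElement, commutatorElement_eq_one_iff_commute]
      exact (IsMulCommutative.is_comm (M := (S : Subgroup G))).comm _ _
    refine S.not_dvd_index ((hsc.trans (Subgroup.card_dvd_of_le hk)).trans ?_)
    rw [hcompl.index_eq_card]
  obtain ⟨x, hx, hxa⟩ := T.exa
  refine D.notSolv (isSolvable_of_normal (commutator G)
    (isSolvable_of_le (D.apart.le_cent_a hx hxa hcop) (T.isSolvable_cent hx)) ?_)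
  refine Group.isSolvable_of_comm fun x y => ?_
  obtain ⟨x, rfl⟩ := QuotientGroup.mk'_surjective _ x
  obtain ⟨y, rfl⟩ := QuotientGroup.mk'_surjective _ y
  rw [← commutatorElement_eq_one_iff_mul_comm, ← map_commutatorElement, ← MonoidHom.mem_ker,
    QuotientGroup.ker_mk']
  exact Subgroup.commutator_mem_commutator (Subgroup.mem_top x) (Subgroup.mem_top y)

theorem exists_good_moving {p : ℕ} (hp : p.Prime) (hpa : ¬ p ∣ a)
    (hbad : ∀ s, D.Bad s → s = p) :
    ∃ q, D.Good q ∧ ∃ (_ : Fact q.Prime) (Q : Sylow q G), ∃ e : G,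
      e ∈ Subgroup.normalizer ((Q : Subgroup G) : Set G) ∧
      e ∉ Subgroup.centralizer ((Q : Subgroup G) : Set G) := by
  classical
  haveI := D.normal
  by_contra hc
  push Not at hc
  have hker : ∀ s, D.Good s → ¬ s ∣ Nat.card (commutator G ⊔ B : Subgroup G) := by
    intro s hs hd
    haveI := Fact.mk hs.1
    obtain ⟨Q⟩ := (inferInstance : Nonempty (Sylow s G))
    have hle : Subgroup.normalizer ((Q : Subgroup G) : Set G) ≤
        Subgroup.centralizer ((Q : Subgroup G) : Set G) := fun e he => hc s hs inferInstance Q e he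
    have hcompl := MonoidHom.ker_transferSylow_isComplement' Q hle
    set f := MonoidHom.transferSylow Q hle
    haveI : IsMulCommutative (Q : Subgroup G) :=
      ⟨⟨fun x y => Subtype.ext (D.sylow_comm hs Q _ x.2 _ y.2).eq⟩⟩
    have hk : commutator G ≤ f.ker := by
      rw [commutator_def, Subgroup.commutator_le]
      intro x _ y _
      rw [MonoidHom.mem_ker, map_commutatorElement, commutatorElement_eq_one_iff_commute]
      exact (IsMulCommutative.is_comm (M := (Q : Subgroup G))).comm _ _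
    have hB : B ≤ f.ker := by
      intro z hz
      obtain ⟨i, hi⟩ := Q.2.exists_card_eq
      refine MonoidHom.mem_ker.2 (orderOf_eq_one_iff.1 (Nat.eq_one_of_dvd_coprimes (a := a)
        (b := s ^ i) ?_ ((orderOf_map_dvd f z).trans (D.cardB ▸ B.orderOf_dvd_natCard hz))
        (hi ▸ orderOf_dvd_natCard _)))
      exact Nat.Coprime.pow_right _ (hs.1.coprime_iff_not_dvd.2 hs.2.1).symm
    refine Q.not_dvd_index ((hd.trans (Subgroup.card_dvd_of_le (sup_le hk hB))).trans ?_)
    rw [hcompl.index_eq_card]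
  haveI hMn : (commutator G ⊔ B).Normal := Subgroup.Normal.of_commutator_le G le_sup_left
  refine D.false_of_primes (M := commutator G ⊔ B) le_sup_right ?_ hp hpa fun s hs hsM hsR => ?_
  · refine Group.isSolvable_of_comm fun x y => ?_
    obtain ⟨x, rfl⟩ := QuotientGroup.mk'_surjective _ x
    obtain ⟨y, rfl⟩ := QuotientGroup.mk'_surjective _ y
    rw [← commutatorElement_eq_one_iff_mul_comm, ← map_commutatorElement, ← MonoidHom.mem_ker,
      QuotientGroup.ker_mk']
    exact Subgroup.mem_sup_left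
      (Subgroup.commutator_mem_commutator (Subgroup.mem_top x) (Subgroup.mem_top y))
  · by_cases hsa : s ∣ a
    · exact Or.inl hsa
    by_cases hsc : s ∣ c
    · exact Or.inr (hbad s ⟨hs, hsa, hsR, hsc⟩)
    · exact absurd hsM (hker s ⟨hs, hsa, hsR, hsc⟩)

theorem exists_p : ∃ p : ℕ, p.Prime ∧ ¬ p ∣ a ∧ ∀ s, D.Bad s → s = p := by
  by_cases h : ∃ p, D.Bad p
  · obtain ⟨p, hp⟩ := h
    exact ⟨p, hp.1, hp.2.1, fun s hs => D.bad_unique hs hp⟩
  · obtain ⟨p, hp, hpb⟩ := Nat.exists_prime_and_dvd D.apart.types.one_b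
    exact ⟨p, hp, fun ha => hp.not_dvd_one (D.apart.types.cop ▸ Nat.dvd_gcd ha hpb),
      fun s hs => absurd ⟨s, hs⟩ h⟩

/-- The contradiction: a count of the elements outside `R`. -/
theorem false : False := by
  classical
  have T := D.apart.types
  haveI := D.normal
  obtain ⟨p, hp, hpa, hbad⟩ := D.exists_p
  obtain ⟨q, hq, hqF, Q, e, he, heC⟩ := D.exists_good_moving hp hpa hbad
  haveI := hqF
  set C₀ := Subgroup.centralizer ((Q : Subgroup G) : Set G) with hC₀
  set NA := Subgroup.normalizer (C₀ : Set G) with hNA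
  set NB := Subgroup.normalizer (B : Set G) with hNB
  -- `C₀` is proper in its normalizer
  have hA2 : 2 * Nat.card C₀ ≤ Nat.card NA := by
    have hlt : C₀ < NA := lt_of_le_of_ne Subgroup.le_normalizer
      fun h => heC (h.symm ▸ centralizer_conj_invariant he)
    obtain ⟨k, hk⟩ := Subgroup.card_dvd_of_le hlt.le
    have h2 : k ≠ 1 := fun h1 => hlt.ne (Subgroup.eq_of_le_of_card_ge hlt.le (by rw [hk, h1, mul_one]))
    have h3 : k ≠ 0 := fun h0 => Nat.card_pos.ne' (by rw [hk, h0, mul_zero])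
    calc 2 * Nat.card C₀ ≤ k * Nat.card C₀ := Nat.mul_le_mul_right _ (by omega)
      _ = _ := by rw [hk, mul_comm]
  have hB2 := D.exists_normalizing_B
  set SA : Set G := (C₀ : Set G) \ (R : Set G) with hSA
  set SB : Set G := (B : Set G) \ {1} with hSB
  have hSAinv : ∀ g ∈ NA, ∀ s ∈ SA, g * s * g⁻¹ ∈ SA := fun g hg s hs =>
    ⟨(Subgroup.mem_normalizer_iff.1 hg s).1 hs.1, fun h => hs.2 (by
      have := D.normal.conj_mem _ h g⁻¹
      rwa [show g⁻¹ * (g * s * g⁻¹) * g⁻¹⁻¹ = s by group] at this)⟩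
  have hSBinv : ∀ g ∈ NB, ∀ s ∈ SB, g * s * g⁻¹ ∈ SB := fun g hg s hs =>
    ⟨(Subgroup.mem_normalizer_iff.1 hg s).1 hs.1, fun h => hs.2 (by
      rw [Set.mem_singleton_iff] at h ⊢
      exact conj_eq_one_iff.1 h)⟩
  have hcov : (Set.univ : Set G) ⊆ (R : Set G) ∪ ({x | ∃ h : G, h * x * h⁻¹ ∈ SA} ∪
      {x | ∃ h : G, h * x * h⁻¹ ∈ SB}) := by
    intro g _
    by_cases hg : g ∈ R
    · exact Or.inl hg
    refine Or.inr ?_
    have hg1 := D.ne_one_of_not_mem hg
    rcases T.cases g hg1 with e' | e' | e'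
    · exact absurd (D.mem_R_of_a hg1 e') hg
    · obtain ⟨h, hh⟩ := D.apart.exists_conj_B D.cardB D.cc hg1 e'
      exact Or.inr ⟨h, hh, fun h0 => hg1 (conj_eq_one_iff.1 h0)⟩
    · obtain ⟨h, hh⟩ := D.cover hq Q hg e'
      refine Or.inl ⟨h, hh, fun h0 => hg ?_⟩
      have := D.normal.conj_mem _ h0 h⁻¹
      rwa [show h⁻¹ * (h * g * h⁻¹) * h⁻¹⁻¹ = g by group] at this
  have h0 := (Set.ncard_le_ncard hcov (Set.toFinite _)).trans
    ((Set.ncard_union_le _ _).trans (Nat.add_le_add_left (Set.ncard_union_le _ _) _))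
  have hA := card_conj_union_le C₀ SA hSAinv
  have hB := card_conj_union_le B SB hSBinv
  rw [Set.ncard_univ, ← Nat.card_coe_set_eq (R : Set G)] at h0
  have hSAc : SA.ncard + 1 ≤ Nat.card C₀ := by
    have h1 : SA ⊆ (C₀ : Set G) \ {1} := fun s hs =>
      ⟨hs.1, fun h => hs.2 ((Set.mem_singleton_iff.1 h) ▸ one_mem R)⟩
    have h2 := Set.ncard_le_ncard h1 (Set.toFinite _)
    rw [Set.ncard_sdiff_singleton_of_mem (show (1 : G) ∈ (C₀ : Set G) from one_mem C₀)] at h2
    have h3 : (C₀ : Set G).ncard = Nat.card C₀ := (Nat.card_coe_set_eq _).symm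
    have := Nat.card_pos (α := C₀)
    omega
  have hSBc : SB.ncard + 1 = a := by
    rw [hSB, Set.ncard_sdiff_singleton_add_one (show (1 : G) ∈ (B : Set G) from one_mem B),
      ← Nat.card_coe_set_eq]
    exact D.cardB
  -- `2 |R| ≤ b`
  obtain ⟨x, hx, hxa⟩ := T.exa
  have hRb : 2 * Nat.card R ≤ b := by
    have hle := D.R_le hx hxa
    obtain ⟨k, hk⟩ := Subgroup.card_dvd_of_le hle
    rw [D.apart.card_cent_a hx hxa] at hk
    have hk1 : k ≠ 1 := by
      rintro rfl
      rw [mul_one] at hk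
      have h1 := Subgroup.card_mul_index R
      rw [← hk, D.apart.card_eq, mul_comm a b] at h1
      exact hq.2.1 (Nat.eq_of_mul_eq_mul_left T.b_pos h1 ▸ hq.2.2.1)
    have hk0 : k ≠ 0 := by rintro rfl; simp [T.b_pos.ne'] at hk
    rw [hk, mul_comm 2]
    exact Nat.mul_le_mul_left _ (by omega)
  have hGab := D.apart.card_eq
  have hNAi := Subgroup.card_mul_index NA
  have hNBi := Subgroup.card_mul_index NB
  set iA := NA.index
  set iB := NB.index
  have hiA : 0 < iA := Nat.pos_of_ne_zero Subgroup.index_ne_zero_of_finite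
  have hiB : 0 < iB := Nat.pos_of_ne_zero Subgroup.index_ne_zero_of_finite
  have e1 : 2 * (iA * Nat.card C₀) ≤ a * b := by
    calc 2 * (iA * Nat.card C₀) = (2 * Nat.card C₀) * iA := by ring
      _ ≤ Nat.card NA * iA := Nat.mul_le_mul_right _ hA2
      _ = a * b := by rw [hNAi, hGab]
  have e2 : 2 * iB ≤ b := by
    refine Nat.le_of_mul_le_mul_left ?_ T.a_pos
    calc a * (2 * iB) = (2 * a) * iB := by ring
      _ ≤ Nat.card NB * iB := Nat.mul_le_mul_right _ hB2
      _ = a * b := by rw [hNBi, hGab]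
  have e3 : iA * SA.ncard + iA ≤ iA * Nat.card C₀ := by
    calc iA * SA.ncard + iA = iA * (SA.ncard + 1) := by ring
      _ ≤ _ := Nat.mul_le_mul_left _ hSAc
  have e4 : 2 * (iB * SB.ncard) + b ≤ a * b := by
    calc 2 * (iB * SB.ncard) + b = (2 * iB) * SB.ncard + b := by ring
      _ ≤ b * SB.ncard + b := Nat.add_le_add_right (Nat.mul_le_mul_right _ e2) _
      _ = a * b := by rw [← hSBc]; ring
  rw [hGab] at h0
  change {x | ∃ h : G, h * x * h⁻¹ ∈ SA}.ncard ≤ iA * SA.ncard at hA
  change {x | ∃ h : G, h * x * h⁻¹ ∈ SB}.ncard ≤ iB * SB.ncard at hB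
  change a * b ≤ Nat.card R + _ at h0
  omega

end FitData

theorem Apart.false_of_radical {a b c : ℕ} (A : Apart G a b c) (hns : ¬ Group.IsSolvable G)
    {R : Subgroup G} (hR : R.Normal) (hRs : Group.IsSolvable R)
    (hmax : ∀ N : Subgroup G, N.Normal → Group.IsSolvable N → N ≤ R) (hne : R ≠ ⊥) : False := by
  obtain ⟨B, hB, hBc, hab, hcc⟩ := A.exists_B_fit hns hR hRs hne
  haveI := hR
  exact FitData.false ⟨A, hns, hR, hRs, hmax, hne, hB, hBc, hab, hcc,
    A.coprime_radical hns hRs hB hBc hcc⟩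

end Cfsg.Agent.ThreeSize7
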