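import Cfsg.Agent.ThreeSize7.NoFit
import Cfsg.Agent.ThreeSize7.Fit2
import Cfsg.Agent.ConjRank.Two
import Cfsg.Agent.Ito7.Finish
import Cfsg.Agent.Lib.LinearGroup.SmallPSL
import Cfsg.Agent.PF14.Compose

/-!
# At most three class sizes besides one and trivial centre
-/

set_option autoImplicit false
set_option linter.unusedSectionVars false
set_option linter.style.haveILetI false

namespace Cfsg.Agent.ThreeSize7

open Agent.Ito7 (cent mem_cent self_mem_cent cent_le_pow cent_mul)

universe u

variable {G : Type u} [Group G] [Finite G]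

theorem isSolvable_of_normal_sylow_two (P : Sylow 2 G) (hn : (P : Subgroup G).Normal) :
    Group.IsSolvable G := by
  haveI := Fact.mk Nat.prime_two
  haveI := hn
  refine isSolvable_of_normal (P : Subgroup G) (isSolvable_of_isNilpotent P.2.isNilpotent)
    (PF14.feitThompson _ ?_)
  rw [← Subgroup.index_eq_card]
  exact Nat.odd_iff.2 (Nat.two_dvd_ne_zero.1 P.not_dvd_index)

theorem isSolvable_of_cyclic_sylow_two (P : Sylow 2 G) (hc : IsCyclic (P : Subgroup G)) :
    Group.IsSolvable G := by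
  haveI := Fact.mk Nat.prime_two
  by_cases hd : 2 ∣ Nat.card G
  swap
  · exact PF14.feitThompson G (Nat.odd_iff.2 (by omega))
  haveI : IsCyclic (P : Subgroup G) := hc
  have hmin : (Nat.card G).minFac = 2 := (Nat.minFac_eq_two_iff _).2 hd
  have hcompl := MonoidHom.ker_transferSylow_isComplement' P (hc.normalizer_le_centralizer hmin)
  set f := MonoidHom.transferSylow P (hc.normalizer_le_centralizer hmin)
  haveI : Group.IsSolvable (P : Subgroup G) := isSolvable_of_isNilpotent P.2.isNilpotent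
  have hK : Group.IsSolvable f.ker := by
    refine PF14.feitThompson _ ?_
    have h1 := hcompl.card_mul_card
    rw [← Subgroup.card_mul_index (P : Subgroup G), mul_comm] at h1
    rw [Nat.eq_of_mul_eq_mul_left Nat.card_pos h1]
    exact Nat.odd_iff.2 (Nat.two_dvd_ne_zero.1 P.not_dvd_index)
  haveI := hK
  exact Group.isSolvable_of_ker_le_range f.ker.subtype f (by rw [Subgroup.range_subtype])

theorem fst_equiv_of_center {L A : Type*} [Group L] [CommGroup A] (hZ : Subgroup.center G = ⊥)
    (e : G ≃* L × A) : Nonempty (G ≃* L) := by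
  have hA : ∀ x : A, x = 1 := by
    intro x
    have h1 : e.symm (1, x) ∈ Subgroup.center G := Subgroup.mem_center_iff.2 fun g => by
      apply e.injective
      rw [map_mul, map_mul, MulEquiv.apply_symm_apply, Prod.ext_iff]
      exact ⟨by simp, mul_comm _ _⟩
    rw [hZ, Subgroup.mem_bot] at h1
    have h2 := congrArg Prod.snd ((e.apply_symm_apply (1, x)).symm.trans (congrArg e h1))
    simpa using h2
  refine ⟨e.trans
    { toFun := Prod.fst
      invFun := fun l => (l, 1)
      left_inv := fun p => Prod.ext rfl (hA p.2).symm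
      right_inv := fun _ => rfl
      map_mul' := fun _ _ => rfl }⟩

/-- The theorem. -/
theorem main (hZ : Subgroup.center G = ⊥)
    (h : Nat.card {k : ℕ | 1 < k ∧ ∃ x : G, n x = k} ≤ 3) :
    Group.IsSolvable G ∨ ∃ f : ℕ, 0 < f ∧
      Nonempty (G ≃* Matrix.ProjectiveSpecialLinearGroup (Fin 2) (GaloisField 2 f)) := by
  classical
  by_cases hns : Group.IsSolvable G
  · exact Or.inl hns
  set S := {k : ℕ | 1 < k ∧ ∃ x : G, n x = k} with hS
  have hone : ∀ g : G, g ≠ 1 → 1 < n g := fun g hg => by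
    refine lt_of_le_of_ne (n_pos g) fun e => hg ?_
    have hc : g ∈ Subgroup.center G := Subgroup.mem_center_iff.2 fun k =>
      (mem_cent.1 ((Subgroup.index_eq_one.1 e.symm).symm ▸ Subgroup.mem_top k)).eq
    rwa [hZ, Subgroup.mem_bot] at hc
  by_cases hA : Ito7.Antichain G
  · rcases Agent.CharDeep.CA.good_of_abInv (Ito7.abInv_of_antichain hA) with
      hc | hc | ⟨F, iF, iFF, f, A, iA, iAf, hf2, hf, -, ⟨e⟩⟩
    · obtain ⟨P⟩ := (inferInstance : Nonempty (Sylow 2 G))
      exact absurd (isSolvable_of_cyclic_sylow_two P (hc P)) hns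
    · obtain ⟨P⟩ := (inferInstance : Nonempty (Sylow 2 G))
      exact absurd (isSolvable_of_normal_sylow_two P (hc P)) hns
    · obtain ⟨e'⟩ := fst_equiv_of_center hZ e
      obtain ⟨ψ⟩ := Agent.CharDeep.OrderP.nonempty_psl_equiv_sl hf
      haveI : Fintype (GaloisField 2 f) := Fintype.ofFinite _
      refine Or.inr ⟨f, by omega, ⟨(e'.trans ψ.symm).trans (LinearGroup.pslCongr
        (FiniteField.ringEquivOfCardEq (K := F) (K' := GaloisField 2 f) ?_))⟩⟩
      rw [hf, ← Nat.card_eq_fintype_card, GaloisField.card 2 f (by omega)]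
  exfalso
  rw [Ito7.Antichain] at hA
  push Not at hA
  obtain ⟨x, y, hx, hy, hle, hne⟩ := hA
  have hac : n y ≠ n x := fun e => hne (cent_eq_of_le hle e.symm)
  have hdvd : n y ∣ n x := dvd_of_le hle
  by_cases hb : ∃ w : G, w ≠ 1 ∧ n w ≠ n x ∧ n w ≠ n y
  swap
  · push Not at hb
    refine hns (ConjRank.isSolvable_of_three_class_sizes (n₁ := n x) (n₂ := n y)
      (lt_of_le_of_ne (Nat.le_of_dvd (n_pos x) hdvd) hac) (hone y hy) (fun g => ?_) ⟨x, rfl⟩ ⟨y, rfl⟩)
    by_cases hg : g = 1
    · left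
      subst hg
      exact Subgroup.index_eq_one.2 (eq_top_iff.2 fun k _ => mem_cent.2 (Commute.one_right k))
    · by_cases e : n g = n x
      · exact Or.inr (Or.inr e)
      · exact Or.inr (Or.inl (hb g hg e))
  obtain ⟨w, hw, hwx, hwy⟩ := hb
  have hfin : S.Finite := (Set.finite_le_nat (Nat.card G)).subset fun k hk => by
    obtain ⟨g, hg⟩ := hk.2
    exact hg ▸ Nat.le_of_dvd Nat.card_pos (Subgroup.index_dvd_card _)
  have hcases : ∀ g : G, g ≠ 1 → n g = n y ∨ n g = n w ∨ n g = n x := by
    intro g hg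
    by_contra hne'
    push Not at hne'
    have hsub : ({n g, n y, n w, n x} : Set ℕ) ⊆ S := by
      rintro k (rfl | rfl | rfl | rfl)
      exacts [⟨hone g hg, g, rfl⟩, ⟨hone y hy, y, rfl⟩, ⟨hone w hw, w, rfl⟩, ⟨hone x hx, x, rfl⟩]
    have h4 := Set.ncard_le_ncard hsub hfin
    rw [Set.ncard_insert_of_notMem (by simp [hne'.1, hne'.2.1, hne'.2.2]),
      Set.ncard_insert_of_notMem (by simp [hwy.symm, hac]),
      Set.ncard_pair hwx] at h4
    rw [Nat.card_coe_set_eq] at h
    omega
  have T : Types G (n y) (n w) (n x) := ⟨hZ, hcases, hdvd, hac, by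
      refine Nat.coprime_of_dvd fun r hr hra hrb => ?_
      haveI := Fact.mk hr
      obtain ⟨g, hg⟩ := exists_prime_orderOf_dvd_card' (G := G) r
        (hra.trans (Subgroup.index_dvd_card _))
      obtain ⟨z, hz1, hzi, -⟩ := Ito7.exists_central_order hg
      rcases hcases z hz1 with e | e | e <;>
        rw [show (cent z).index = n z from rfl, e] at hzi
      exacts [hzi hra, hzi hrb, hzi (hra.trans hdvd)],
    (hone y hy).ne', (hone w hw).ne', ⟨y, hy, rfl⟩, ⟨w, hw, rfl⟩, ⟨x, hx, rfl⟩⟩
  have A := T.apart_of_not_solvable hns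
  obtain ⟨R, hR, hRs, hmax⟩ := exists_radical G
  by_cases hR1 : R = ⊥
  · exact A.false_of_no_radical fun N hN hNs => le_bot_iff.1 (hR1 ▸ hmax N hN hNs)
  · exact A.false_of_radical hns hR hRs hmax hR1

end Cfsg.Agent.ThreeSize7
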