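import Cfsg.Agent.Ito7.Chain
import Cfsg.Agent.Lib.Fitting.KegelWielandt
import Cfsg.Agent.Lib.Solvable.System

/-!
# Groups with trivial centre and three class sizes: basic facts
-/

set_option autoImplicit false
set_option linter.unusedSectionVars false

namespace Cfsg.Agent.ThreeSize7

open Agent.Ito7 (cent mem_cent self_mem_cent cent_le_pow cent_mul)

universe u

variable {G : Type u} [Group G] [Finite G]

/-- The class size of an element. -/
noncomputable abbrev n (g : G) : ℕ := (cent g).index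

theorem n_pos (g : G) : 0 < n g := Nat.pos_of_ne_zero Subgroup.index_ne_zero_of_finite

theorem card_cent_mul (g : G) : Nat.card (cent g) * n g = Nat.card G :=
  Subgroup.card_mul_index _

theorem card_cent_eq {g h : G} (e : n g = n h) : Nat.card (cent g) = Nat.card (cent h) := by
  have h1 := card_cent_mul g
  rw [e, ← card_cent_mul h] at h1
  exact Nat.eq_of_mul_eq_mul_right (n_pos h) h1

theorem cent_eq_of_le {g h : G} (hle : cent g ≤ cent h) (e : n g = n h) : cent g = cent h :=
  Subgroup.eq_of_le_of_card_ge hle (card_cent_eq e).ge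

theorem dvd_of_le {g h : G} (hle : cent g ≤ cent h) : n h ∣ n g := Subgroup.index_dvd_of_le hle

theorem isSolvable_of_le {A B : Subgroup G} (h : A ≤ B) (hB : Group.IsSolvable B) :
    Group.IsSolvable A :=
  haveI := hB
  Group.isSolvable_of_isSolvable_injective (f := Subgroup.inclusion h) (Subgroup.inclusion_injective h)

theorem isSolvable_of_normal (N : Subgroup G) [N.Normal] (h1 : Group.IsSolvable N)
    (h2 : Group.IsSolvable (G ⧸ N)) : Group.IsSolvable G :=
  haveI := h1; haveI := h2
  Group.isSolvable_of_ker_le_range N.subtype (QuotientGroup.mk' N)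
    (by rw [QuotientGroup.ker_mk', Subgroup.range_subtype])

theorem isSolvable_of_isNilpotent {H : Type u} [Group H] (h : Group.IsNilpotent H) :
    Group.IsSolvable H := haveI := h; inferInstance

/-- Subgroups of coprime orders with the product of orders `|G|` factorise `G`. -/
theorem isProd_of_card (A B : Subgroup G) (hcop : (Nat.card A).Coprime (Nat.card B))
    (h : Nat.card A * Nat.card B = Nat.card G) : KegelWielandt.IsProd A B := by
  have hA : A.index = Nat.card B := by
    have h1 := Subgroup.card_mul_index A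
    rw [← h] at h1
    exact Nat.eq_of_mul_eq_mul_left Nat.card_pos h1
  have hB : B.index = Nat.card A := by
    have h1 := Subgroup.card_mul_index B
    rw [← h, mul_comm (Nat.card A)] at h1
    exact Nat.eq_of_mul_eq_mul_left Nat.card_pos h1
  intro g
  exact Solvable.exists_mul_eq_of_coprime_index (A := B) (B := A)
    (by rw [hA, hB]; exact hcop) g

theorem isSolvable_of_card_mul (A B : Subgroup G) (hA : Group.IsNilpotent A)
    (hB : Group.IsNilpotent B) (hcop : (Nat.card A).Coprime (Nat.card B))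
    (h : Nat.card A * Nat.card B = Nat.card G) : Group.IsSolvable G :=
  KegelWielandt.isSolvable_of_nilpotent_product A B hA hB (isProd_of_card A B hcop h)

/-- The three class sizes `a ∣ c` and `b` prime to `a`. -/
structure Types (G : Type u) [Group G] (a b c : ℕ) : Prop where
  center : Subgroup.center G = ⊥
  cases : ∀ g : G, g ≠ 1 → n g = a ∨ n g = b ∨ n g = c
  dvd : a ∣ c
  ne_ac : a ≠ c
  cop : Nat.Coprime a b
  one_a : a ≠ 1
  one_b : b ≠ 1
  exa : ∃ g : G, g ≠ 1 ∧ n g = a
  exb : ∃ g : G, g ≠ 1 ∧ n g = b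
  exc : ∃ g : G, g ≠ 1 ∧ n g = c

namespace Types

variable {a b c : ℕ} (T : Types G a b c)
include T

theorem nab : ¬ a ∣ b := fun h => T.one_a (Nat.Coprime.eq_one_of_dvd T.cop h)

theorem nba : ¬ b ∣ a := fun h => T.one_b (Nat.Coprime.eq_one_of_dvd T.cop.symm h)

theorem nca : ¬ c ∣ a := fun h => T.ne_ac (Nat.dvd_antisymm T.dvd h)

theorem ncb : ¬ c ∣ b := fun h => T.nab (T.dvd.trans h)

theorem ne_ab : a ≠ b := fun h => T.nab (h ▸ dvd_rfl)

theorem ne_bc : b ≠ c := fun h => T.ncb (h ▸ dvd_rfl)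

theorem a_pos : 0 < a := by
  obtain ⟨g, -, hg⟩ := T.exa
  exact hg ▸ n_pos g

theorem b_pos : 0 < b := by
  obtain ⟨g, -, hg⟩ := T.exb
  exact hg ▸ n_pos g

theorem a_dvd_card : a ∣ Nat.card G := by
  obtain ⟨g, -, hg⟩ := T.exa
  exact hg ▸ Subgroup.index_dvd_card _

theorem b_dvd_card : b ∣ Nat.card G := by
  obtain ⟨g, -, hg⟩ := T.exb
  exact hg ▸ Subgroup.index_dvd_card _

/-- The class size of a commuting pair of coprime orders. -/
theorem dvd_mul_coprime {g h : G} (hc : Commute g h) (hcop : (orderOf g).Coprime (orderOf h)) :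
    n g ∣ n (g * h) ∧ n h ∣ n (g * h) :=
  ⟨dvd_of_le ((cent_mul hc hcop).le.trans inf_le_left),
    dvd_of_le ((cent_mul hc hcop).le.trans inf_le_right)⟩

theorem type_a_of_le {g h : G} (hh : h ≠ 1) (hle : cent g ≤ cent h) (hg : n g = a) : n h = a := by
  have hd := dvd_of_le hle
  rw [hg] at hd
  rcases T.cases h hh with e | e | e <;> rw [e] at hd
  exacts [e, absurd hd T.nba, absurd hd T.nca]

theorem type_b_of_le {g h : G} (hh : h ≠ 1) (hle : cent g ≤ cent h) (hg : n g = b) : n h = b := by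
  have hd := dvd_of_le hle
  rw [hg] at hd
  rcases T.cases h hh with e | e | e <;> rw [e] at hd
  exacts [absurd hd T.nab, e, absurd hd T.ncb]

theorem type_a_pow {g : G} {k : ℕ} (hk : g ^ k ≠ 1) (hg : n g = a) : n (g ^ k) = a :=
  T.type_a_of_le hk (cent_le_pow g k) hg

theorem type_b_pow {g : G} {k : ℕ} (hk : g ^ k ≠ 1) (hg : n g = b) : n (g ^ k) = b :=
  T.type_b_of_le hk (cent_le_pow g k) hg

theorem exists_prime_a {g : G} (hg : g ≠ 1) (hga : n g = a) :
    ∃ (p k : ℕ), p.Prime ∧ orderOf (g ^ k) = p ∧ n (g ^ k) = a := by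
  obtain ⟨p, k, hp, hk⟩ := Ito7.exists_prime_power_one hg
  exact ⟨p, k, hp, hk, T.type_a_pow (Ito7.ne_one_of_order hp hk) hga⟩

theorem exists_prime_b {g : G} (hg : g ≠ 1) (hgb : n g = b) :
    ∃ (p k : ℕ), p.Prime ∧ orderOf (g ^ k) = p ∧ n (g ^ k) = b := by
  obtain ⟨p, k, hp, hk⟩ := Ito7.exists_prime_power_one hg
  exact ⟨p, k, hp, hk, T.type_b_pow (Ito7.ne_one_of_order hp hk) hgb⟩

theorem n_ne_one {g : G} (hg : g ≠ 1) : n g ≠ 1 := fun h => by
  rcases T.cases g hg with e | e | e <;> rw [e] at h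
  exacts [T.one_a h, T.one_b h, T.one_a (Nat.eq_one_of_dvd_one (h ▸ T.dvd))]

theorem cent_ne_top {g : G} (hg : g ≠ 1) : cent g ≠ ⊤ := fun h => T.n_ne_one hg (by
  simp [n, h])

end Types

end Cfsg.Agent.ThreeSize7
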