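import Cfsg.Agent.ThreeSize7.Local
import Cfsg.Agent.S4146
import Cfsg.Agent.Lib.CharCore.Burnside

/-!
# Commuting elements of the coprime types force solvability
-/

set_option autoImplicit false
set_option linter.unusedSectionVars false
set_option linter.style.haveILetI false

namespace Cfsg.Agent.ThreeSize7

open Agent.Ito7 (cent mem_cent self_mem_cent cent_le_pow cent_mul)

universe u

variable {G : Type u} [Group G] [Finite G]

theorem eq_one_of_prime_powers {a b p : ℕ} (hp : p.Prime) (ha : ∃ i, a = p ^ i) (hb : ∃ j, b = p ^ j)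
    (hcop : a.Coprime b) : a = 1 ∨ b = 1 := by
  obtain ⟨i, rfl⟩ := ha
  obtain ⟨j, rfl⟩ := hb
  rcases Nat.eq_zero_or_pos i with rfl | hi
  · left; simp
  rcases Nat.eq_zero_or_pos j with rfl | hj
  · right; simp
  exact absurd ((Nat.Coprime.coprime_dvd_left (dvd_pow_self p hi.ne') hcop).coprime_dvd_right
    (dvd_pow_self p hj.ne')) (by simp [Nat.coprime_self, hp.one_lt.ne'])

theorem exists_eq_pow_of_unique {k p : ℕ} (hk : k ≠ 0)
    (h : ∀ s : ℕ, s.Prime → s ≠ p → ¬ s ∣ k) : ∃ i, k = p ^ i :=
  ⟨_, Nat.eq_prime_pow_of_unique_prime_dvd hk fun {d} hd hdk => by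
    by_contra hne; exact h d hd hne hdk⟩

theorem exists_prime_order (H : Subgroup G) {s : ℕ} (hs : s.Prime) (hd : s ∣ Nat.card H) :
    ∃ u ∈ H, orderOf u = s := by
  haveI := Fact.mk hs
  obtain ⟨u, hu⟩ := exists_prime_orderOf_dvd_card' (G := H) s hd
  exact ⟨u, u.2, by rw [Subgroup.orderOf_coe, hu]⟩

/-- A nilpotent subgroup of order prime to `p` and `p`-power index gives solvability. -/
theorem isSolvable_of_compl {p m : ℕ} (hp : p.Prime) (H : Subgroup G) (hH : Group.IsNilpotent H)
    (hpH : ¬ p ∣ Nat.card H) (hG : Nat.card G = Nat.card H * p ^ m) : Group.IsSolvable G := by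
  refine HasNilCompl.isSolvable (p := p) hp ⟨H, hH, hpH, m, ?_⟩
  have h := Subgroup.card_mul_index H
  rw [hG] at h
  exact Nat.eq_of_mul_eq_mul_left Nat.card_pos h

namespace Types

variable {a b c : ℕ} (T : Types G a b c)
include T

/-- A commuting pair of the types `a`, `b` of coprime orders. -/
theorem isSolvable_of_mixed {x y : G} (hx1 : x ≠ 1) (hxa : n x = a) (hyb : n y = b)
    (hc : Commute x y) (hcop : (orderOf x).Coprime (orderOf y)) : Group.IsSolvable G := by
  have hm : n (x * y) = a * b := by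
    rw [n, cent_mul hc hcop]
    show (cent x ⊓ cent y).index = _
    rw [Solvable.index_inf_of_coprime (A := cent x) (B := cent y) (by
      show (n x).Coprime (n y)
      rw [hxa, hyb]; exact T.cop)]
    show n x * n y = _
    rw [hxa, hyb]
  have hab : c = a * b := by
    rcases T.cases _ (Ito7.mul_ne_one_of_coprime hx1 hcop) with e | e | e <;> rw [hm] at e
    · exact absurd ((mul_eq_left₀ T.a_pos.ne').1 e) T.one_b
    · exact absurd ((mul_eq_right₀ T.b_pos.ne').1 e) T.one_a
    · exact e.symm
  obtain ⟨hnil, -, -⟩ := S4146.result (G := G) a b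
    (lt_of_le_of_ne T.a_pos (Ne.symm T.one_a)) (lt_of_le_of_ne T.b_pos (Ne.symm T.one_b)) T.cop (by
      refine Set.Subset.antisymm ?_ ?_
      · rintro _ ⟨g, rfl⟩
        by_cases hg : g = 1
        · left
          subst hg
          exact Subgroup.index_eq_one.2 (eq_top_iff.2 fun k _ => mem_cent.2 (Commute.one_right k))
        · rcases T.cases g hg with e | e | e
          · exact Or.inr (Or.inl e)
          · exact Or.inr (Or.inr (Or.inl e))
          · exact Or.inr (Or.inr (Or.inr (e.trans hab)))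
      · rintro _ (rfl | rfl | rfl | rfl)
        · exact ⟨1, Subgroup.index_eq_one.2
            (eq_top_iff.2 fun k _ => mem_cent.2 (Commute.one_right k))⟩
        · exact T.exa.imp fun _ h => h.2
        · exact T.exb.imp fun _ h => h.2
        · exact T.exc.imp fun _ h => h.2.trans hab)
  exact isSolvable_of_isNilpotent hnil

theorem mixed_false (hns : ¬ Group.IsSolvable G) {x y : G} {p q : ℕ} (hp : p.Prime) (hq : q.Prime)
    (hx : orderOf x = p) (hy : orderOf y = q) (hne : p ≠ q) (hxa : n x = a) (hyb : n y = b)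
    (hc : Commute x y) : False :=
  hns (T.isSolvable_of_mixed (Ito7.ne_one_of_order hp hx) hxa hyb hc
    (by rw [hx, hy]; exact (Nat.coprime_primes hp hq).2 hne))

/-- An element of prime order in both centralizers. -/
theorem type_c_of_mem (hns : ¬ Group.IsSolvable G) {x y u : G} {p r : ℕ} (hp : p.Prime)
    (hr : r.Prime) (hx : orderOf x = p) (hy : orderOf y = p) (hu : orderOf u = r) (hrp : r ≠ p)
    (hxa : n x = a) (hyb : n y = b) (hux : Commute u x) (huy : Commute u y) : n u = c := by
  rcases T.cases u (Ito7.ne_one_of_order hr hu) with e | e | e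
  · exact (T.mixed_false hns hr hp hu hy hrp e hyb huy).elim
  · exact (T.mixed_false hns hp hr hx hu (Ne.symm hrp) hxa e hux.symm).elim
  · exact e

theorem n_mul_of_type_c {z u : G} {p r : ℕ} (hp : p.Prime) (hr : r.Prime) (hz : orderOf z = p)
    (hu : orderOf u = r) (hrp : r ≠ p) (huc : n u = c) (hc : Commute u z) : n (z * u) = c := by
  have hcop : (orderOf z).Coprime (orderOf u) := by
    rw [hz, hu]; exact (Nat.coprime_primes hp hr).2 (Ne.symm hrp)
  have hd := (dvd_mul_coprime T hc.symm hcop).2
  rw [huc] at hd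
  rcases T.cases _ (Ito7.mul_ne_one_of_coprime (Ito7.ne_one_of_order hp hz) hcop) with e | e | e <;>
    rw [e] at hd
  exacts [absurd hd T.nca, absurd hd T.ncb, e]

theorem factorization_eq {z u : G} {p r t : ℕ} (hp : p.Prime) (hr : r.Prime) (ht : t.Prime)
    (hz : orderOf z = p) (hu : orderOf u = r) (hrp : r ≠ p) (htp : t ≠ p) (hrt : r ≠ t)
    (huc : n u = c) (hc : Commute u z) : c.factorization t = (n z).factorization t := by
  have hm := T.n_mul_of_type_c hp hr hz hu hrp huc hc
  have h := T.not_dvd_relIndex hp hr ht hrt hrp htp hz hu hc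
  rw [hm] at h
  have hd : n z ∣ c := hm ▸ dvd_of_le ((cent_mul hc.symm (by
    rw [hz, hu]; exact (Nat.coprime_primes hp hr).2 (Ne.symm hrp))).le.trans inf_le_left)
  obtain ⟨e, he⟩ := hd
  have he0 : e ≠ 0 := by
    rintro rfl
    rw [mul_zero] at he
    exact (n_pos u).ne' (huc.trans he)
  rw [he, Nat.mul_div_cancel_left _ (n_pos z)] at h
  rw [he, Nat.factorization_mul (n_pos z).ne' he0, Finsupp.add_apply,
    Nat.factorization_eq_zero_of_not_dvd h, add_zero]

/-- Commuting elements of types `a` and `b` force solvability. -/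
theorem isSolvable_of_commute {x₀ y₀ : G} (hx0 : x₀ ≠ 1) (hy0 : y₀ ≠ 1) (hxa0 : n x₀ = a)
    (hyb0 : n y₀ = b) (hc0 : Commute x₀ y₀) : Group.IsSolvable G := by
  by_contra hns
  obtain ⟨p, i, hp, hx, hxa⟩ := T.exists_prime_a hx0 hxa0
  obtain ⟨q, j, hq, hy, hyb⟩ := T.exists_prime_b hy0 hyb0
  have hxy : Commute (x₀ ^ i) (y₀ ^ j) := hc0.pow_pow i j
  generalize x₀ ^ i = x at hx hxa hxy
  generalize y₀ ^ j = y at hy hyb hxy
  by_cases hpq : p = q
  swap
  · exact T.mixed_false hns hp hq hx hy hpq hxa hyb hxy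
  subst hpq
  set D := cent x ⊓ cent y with hD
  have hDi : D.index = a * b := by
    rw [hD, Solvable.index_inf_of_coprime (A := cent x) (B := cent y) (by
      show (n x).Coprime (n y)
      rw [hxa, hyb]; exact T.cop)]
    show n x * n y = _
    rw [hxa, hyb]
  have hGD : Nat.card G = Nat.card D * (a * b) := by rw [← hDi, Subgroup.card_mul_index]
  have hay : a ∣ Nat.card (cent y) := by
    have := T.a_dvd_card
    rw [← card_cent_mul y, hyb] at this
    exact T.cop.dvd_of_dvd_mul_right this
  have hbx : b ∣ Nat.card (cent x) := by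
    have := T.b_dvd_card
    rw [← card_cent_mul x, hxa] at this
    exact T.cop.symm.dvd_of_dvd_mul_right this
  have hboth : (∃ k, a = p ^ k) → (∃ k, b = p ^ k) → False := fun ha hb =>
    (eq_one_of_prime_powers hp ha hb T.cop).elim T.one_a T.one_b
  by_cases hbc : b ∣ c
  swap
  · -- the centralizer of `y` is a `p`-group
    have hPy : ∀ s : ℕ, s.Prime → s ≠ p → ¬ s ∣ Nat.card (cent y) := by
      intro s hs hsp hd
      obtain ⟨u, huy, hu⟩ := exists_prime_order _ hs hd
      rw [mem_cent] at huy
      have hcop : (orderOf y).Coprime (orderOf u) := by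
        rw [hy, hu]; exact (Nat.coprime_primes hp hs).2 (Ne.symm hsp)
      have hy1 := Ito7.ne_one_of_order hp hy
      have hm : n (y * u) = b := by
        have hd := (dvd_mul_coprime T huy.symm hcop).1
        rw [hyb] at hd
        rcases T.cases _ (Ito7.mul_ne_one_of_coprime hy1 hcop) with e | e | e <;> rw [e] at hd
        exacts [absurd hd T.nba, e, absurd hd hbc]
      have he := cent_eq_of_le ((cent_mul huy.symm hcop).le.trans inf_le_left) (hm.trans hyb.symm)
      have hle : cent y ≤ cent u := he ▸ (cent_mul huy.symm hcop).le.trans inf_le_right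
      refine T.mixed_false hns hp hs hx hu (Ne.symm hsp) hxa
        (T.type_b_of_le (Ito7.ne_one_of_order hs hu) hle hyb) ?_
      exact mem_cent.1 (hle (mem_cent.2 hxy))
    obtain ⟨k, hk⟩ := exists_eq_pow_of_unique Nat.card_pos.ne' hPy
    obtain ⟨j, -, hj⟩ := (Nat.dvd_prime_pow hp).1 (hk ▸ hay)
    obtain ⟨H, hH, hpH, l, hl⟩ := T.hasNilCompl hp hx
    refine hns (isSolvable_of_compl (m := l + j) hp (H.map (cent x).subtype) ?_ ?_ ?_)
    · haveI := hH
      exact Group.nilpotent_of_mulEquiv
        (Subgroup.equivMapOfInjective H _ (cent x).subtype_injective)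
    · rwa [Subgroup.card_map_of_injective (cent x).subtype_injective]
    · rw [Subgroup.card_map_of_injective (cent x).subtype_injective, ← card_cent_mul x, hxa, hj,
        ← Subgroup.card_mul_index H, hl, pow_add, mul_assoc]
  -- now `b ∣ c`
  have hDx : ∀ u ∈ D, Commute u x := fun u hu => mem_cent.1 hu.1
  have hDy : ∀ u ∈ D, Commute u y := fun u hu => mem_cent.1 hu.2
  have key : ∀ {r : ℕ}, r.Prime → r ≠ p → r ∣ Nat.card D → ∀ t : ℕ, t.Prime → t ≠ p → t ≠ r →
      ¬ t ∣ a ∧ ¬ t ∣ b := by
    intro r hr hrp hrd t ht htp htr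
    obtain ⟨u, huD, hu⟩ := exists_prime_order _ hr hrd
    have huc := T.type_c_of_mem hns hp hr hx hy hu hrp hxa hyb (hDx u huD) (hDy u huD)
    have h1 := T.factorization_eq hp hr ht hx hu hrp htp (Ne.symm htr) huc (hDx u huD)
    have h2 := T.factorization_eq hp hr ht hy hu hrp htp (Ne.symm htr) huc (hDy u huD)
    rw [hxa] at h1
    rw [hyb] at h2
    constructor <;> intro hd
    · have h3 := ht.factorization_pos_of_dvd T.a_pos.ne' hd
      have h4 : t ∣ b := Nat.dvd_of_factorization_pos (n := b) (p := t) (by omega)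
      exact ht.not_dvd_one (T.cop ▸ Nat.dvd_gcd hd h4)
    · have h3 := ht.factorization_pos_of_dvd T.b_pos.ne' hd
      have h4 : t ∣ a := Nat.dvd_of_factorization_pos (n := a) (p := t) (by omega)
      exact ht.not_dvd_one (T.cop ▸ Nat.dvd_gcd h4 hd)
  by_cases hr : ∃ r : ℕ, r.Prime ∧ r ≠ p ∧ r ∣ Nat.card D
  · obtain ⟨r, hr, hrp, hrd⟩ := hr
    by_cases ht : ∃ t : ℕ, t.Prime ∧ t ≠ p ∧ t ≠ r ∧ t ∣ Nat.card D
    · obtain ⟨t, ht, htp, htr, htd⟩ := ht
      have hall : ∀ s : ℕ, s.Prime → s ≠ p → ¬ s ∣ a ∧ ¬ s ∣ b := by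
        intro s hs hsp
        by_cases hsr : s = r
        · exact key ht htp htd s hs hsp (hsr ▸ Ne.symm htr)
        · exact key hr hrp hrd s hs hsp hsr
      exact hboth (exists_eq_pow_of_unique T.a_pos.ne' fun s hs hsp => (hall s hs hsp).1)
        (exists_eq_pow_of_unique T.b_pos.ne' fun s hs hsp => (hall s hs hsp).2)
    · push Not at ht
      refine hns (CharCore.isSolvable_of_card_eq_prime_pow_mul hp hr (Nat.card G) G
        ((Nat.card G).factorization p) ((Nat.card G).factorization r) rfl ?_)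
      refine Nat.eq_of_factorization_eq Nat.card_pos.ne'
        (mul_ne_zero (pow_ne_zero _ hp.ne_zero) (pow_ne_zero _ hr.ne_zero)) fun s => ?_
      rw [Nat.factorization_mul (pow_ne_zero _ hp.ne_zero) (pow_ne_zero _ hr.ne_zero),
        Finsupp.add_apply, hp.factorization_pow, hr.factorization_pow, Finsupp.single_apply,
        Finsupp.single_apply]
      by_cases hsp : s = p
      · rw [hsp, if_pos rfl, if_neg hrp, add_zero]
      by_cases hsr : s = r
      · rw [hsr, if_pos rfl, if_neg (Ne.symm hrp), zero_add]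
      rw [if_neg (Ne.symm hsp), if_neg (Ne.symm hsr), add_zero]
      by_cases hs : s.Prime
      swap
      · exact Nat.factorization_eq_zero_of_not_prime _ hs
      refine Nat.factorization_eq_zero_of_not_dvd fun hd => ?_
      rw [hGD] at hd
      rcases hs.dvd_mul.1 hd with h | h
      · exact ht s hs hsp hsr h
      · rcases hs.dvd_mul.1 h with h | h
        exacts [(key hr hrp hrd s hs hsp hsr).1 h, (key hr hrp hrd s hs hsp hsr).2 h]
  · push Not at hr
    have hone : ∀ {z z' : G}, orderOf z = p → D = cent z ⊓ cent z' → (n z = a ∨ n z = b) →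
        Commute z z' → ∀ s : ℕ, s.Prime → s ≠ p → ¬ s ∣ Nat.card (cent z) := by
      intro z z' hz hDe hzab hzz s hs hsp hd
      obtain ⟨w, hwz, hw⟩ := exists_prime_order _ hs hd
      rw [mem_cent] at hwz
      have hcop : (orderOf z).Coprime (orderOf w) := by
        rw [hz, hw]; exact (Nat.coprime_primes hp hs).2 (Ne.symm hsp)
      have hle := cent_mul hwz.symm hcop
      have hdvd := (dvd_mul_coprime T hwz.symm hcop).1
      have hm : n (z * w) = n z ∨ n (z * w) = c := by
        rcases T.cases _ (Ito7.mul_ne_one_of_coprime (Ito7.ne_one_of_order hp hz) hcop)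
          with e | e | e <;> rcases hzab with e' | e' <;> rw [e, e'] at hdvd ⊢
        all_goals first
          | exact Or.inl rfl
          | exact Or.inr rfl
          | exact absurd hdvd T.nab
          | exact absurd hdvd T.nba
      refine hr s hs hsp ?_
      rcases hm with e | e
      · have he := cent_eq_of_le (hle.le.trans inf_le_left) e
        have hw' : w ∈ cent z' :=
          mem_cent.2 (mem_cent.1 ((he ▸ hle.le.trans inf_le_right) (mem_cent.2 hzz.symm))).symm
        exact hw ▸ hDe ▸ Subgroup.orderOf_dvd_natCard (cent z ⊓ cent z')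
          ⟨mem_cent.2 hwz, hw'⟩
      · obtain ⟨k, hk⟩ := Nat.Coprime.mul_dvd_of_dvd_of_dvd T.cop T.dvd hbc
        have h1 := card_cent_mul (z * w)
        rw [e, hk, hGD, ← mul_assoc, mul_comm, ← mul_assoc] at h1
        have h2 : Nat.card (cent (z * w)) ∣ Nat.card D := by
          refine ⟨k, Nat.eq_of_mul_eq_mul_right (Nat.mul_pos T.a_pos T.b_pos) ?_⟩
          rw [← h1]; ring
        refine (Ito7.prime_dvd_card hw _ ?_).trans h2
        rw [hle]
        exact ⟨mem_cent.2 hwz, self_mem_cent w⟩
    have hA := hone hx hD (Or.inl hxa) hxy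
    have hB := hone hy (hD.trans (inf_comm _ _)) (Or.inr hyb) hxy.symm
    exact hboth (exists_eq_pow_of_unique T.a_pos.ne' fun s hs hsp h => hB s hs hsp (h.trans hay))
      (exists_eq_pow_of_unique T.b_pos.ne' fun s hs hsp h => hA s hs hsp (h.trans hbx))

end Types

end Cfsg.Agent.ThreeSize7
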