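import Cfsg.Agent.ThreeSize7.NC
import Cfsg.Agent.Lib.Frobenius.FixedPointFree

/-!
# Nontrivial solvable radical: the abelian subgroup of order `a` and the radical
-/

set_option autoImplicit false
set_option linter.unusedSectionVars false
set_option linter.style.haveILetI false

namespace Cfsg.Agent.ThreeSize7

open scoped Pointwise
open Agent.Ito7 (cent mem_cent self_mem_cent cent_le_pow cent_mul)

universe u

variable {G : Type u} [Group G] [Finite G]

theorem isSolvable_sup {N R : Subgroup G} [R.Normal] (hN : Group.IsSolvable N)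
    (hR : Group.IsSolvable R) : Group.IsSolvable (N ⊔ R : Subgroup G) := by
  set X := N ⊔ R with hX
  let π := QuotientGroup.mk' R
  let g : X →* N.map π := (π.comp X.subtype).codRestrict _ fun x => by
    obtain ⟨y, hy, z, hz, hyz⟩ := Subgroup.mem_sup_of_normal_right.1 x.2
    refine ⟨y, hy, ?_⟩
    show π y = π x
    rw [← hyz, map_mul, show π z = 1 from (QuotientGroup.eq_one_iff z).2 hz, mul_one]
  haveI := hR
  haveI : Group.IsSolvable (N.map π) :=
    haveI := hN
    Group.isSolvable_of_surjective (f := π.subgroupMap N) (π.subgroupMap_surjective N)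
  refine Group.isSolvable_of_ker_le_range (Subgroup.inclusion (le_sup_right : R ≤ X)) g ?_
  intro x hx
  have h1 : π (x : G) = 1 := congrArg Subtype.val (MonoidHom.mem_ker.1 hx)
  exact ⟨⟨x, (QuotientGroup.eq_one_iff _).1 h1⟩, rfl⟩

/-- A largest solvable normal subgroup. -/
theorem exists_radical (G : Type u) [Group G] [Finite G] :
    ∃ R : Subgroup G, R.Normal ∧ Group.IsSolvable R ∧
      ∀ N : Subgroup G, N.Normal → Group.IsSolvable N → N ≤ R := by
  classical
  obtain ⟨R, hR, hmax⟩ := Set.Finite.exists_maximalFor (fun N : Subgroup G => Nat.card N)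
    {N | N.Normal ∧ Group.IsSolvable N} (Set.toFinite _) ⟨⊥, inferInstance, inferInstance⟩
  haveI := hR.1
  refine ⟨R, hR.1, hR.2, fun N hN hNs => ?_⟩
  haveI := hN
  have h1 : N ⊔ R ∈ {N : Subgroup G | N.Normal ∧ Group.IsSolvable N} :=
    ⟨inferInstance, isSolvable_sup hNs hR.2⟩
  have h2 := Subgroup.eq_of_le_of_card_ge (le_sup_right : R ≤ N ⊔ R)
    (hmax h1 (Subgroup.card_le_of_le le_sup_right))
  rw [h2]
  exact le_sup_left

theorem sylow_ge_of_index {r : ℕ} [Fact r.Prime] {U H : Subgroup G} [U.Normal] (hU : IsPGroup r U)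
    (hH : ¬ r ∣ H.index) : U ≤ H := by
  obtain ⟨S⟩ := (inferInstance : Nonempty (Sylow r H))
  let T : Sylow r G := Sylow.ofCard ((S : Subgroup H).map H.subtype) (by
    rw [Subgroup.card_map_of_injective H.subtype_injective, S.card_eq_multiplicity]
    congr 1
    rw [← Subgroup.card_mul_index H, Nat.factorization_mul Nat.card_pos.ne'
      Subgroup.index_ne_zero_of_finite, Finsupp.add_apply,
      Nat.factorization_eq_zero_of_not_dvd hH, add_zero])
  have h := T.3 (T.2.to_sup_of_normal_right hU) le_sup_left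
  exact (h ▸ le_sup_right : U ≤ (T : Subgroup G)).trans
    (Subgroup.map_subtype_le (S : Subgroup H))

/-- Some power of an element outside a subgroup has prime power order and lies outside it. -/
theorem exists_part_not_mem {H : Subgroup G} {g : G} (hg : g ∉ H) :
    ∃ (t i k : ℕ), t.Prime ∧ orderOf (g ^ k) = t ^ i ∧ g ^ k ∉ H := by
  by_contra hc
  push Not at hc
  refine hg ((KegelWielandt.le_of_prime_pow_mem (X := Subgroup.zpowers g) (Y := H)
    fun q hq _ x hx hxo => ?_) (Subgroup.mem_zpowers g))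
  obtain ⟨k, rfl⟩ := mem_powers_iff_mem_zpowers.2 hx
  obtain ⟨i, hi⟩ := hxo
  exact hc q i k hq hi

theorem card_sup_dvd (C R : Subgroup G) [R.Normal] :
    Nat.card (C ⊔ R : Subgroup G) ∣ Nat.card C * Nat.card R := by
  have h := Cfsg.Agent.S0560.card_mul_mul_card_inf C R
  have e : Nat.card ((C : Set G) * (R : Set G) : Set G) = Nat.card (C ⊔ R : Subgroup G) := by
    rw [← Subgroup.mul_normal C R]; rfl
  rw [e] at h
  exact ⟨_, h.symm⟩

namespace Apart

variable {a b c : ℕ} (A : Apart G a b c)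
include A

theorem cent_le_of_c {g u : G} (hg : g ≠ 1) (hgc : n g = c) (hc : Commute g u)
    (hcop : (orderOf g).Coprime (orderOf u)) : cent g ≤ cent u := by
  have T := A.types
  have hle := cent_mul hc hcop
  have hm : n (g * u) = c := by
    have hd := (Types.dvd_mul_coprime T hc hcop).1
    rw [hgc] at hd
    rcases T.cases _ (Ito7.mul_ne_one_of_coprime hg hcop) with e | e | e <;> rw [e] at hd
    exacts [absurd hd T.nca, absurd hd T.ncb, e]
  exact (cent_eq_of_le (hle.le.trans inf_le_left) (hm.trans hgc.symm)) ▸ hle.le.trans inf_le_right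

theorem not_dvd_index_of_a {H : Subgroup G} (hH : Nat.card H = a) {q : ℕ} (hq : q.Prime)
    (hqa : q ∣ a) : ¬ q ∣ H.index := fun hd => by
  have h1 := Subgroup.card_mul_index H
  rw [hH, A.card_eq] at h1
  exact hq.not_dvd_one
    (A.types.cop ▸ Nat.dvd_gcd hqa (Nat.eq_of_mul_eq_mul_left A.types.a_pos h1 ▸ hd))

/-- A subgroup of order prime to `a` normalised by `cent x`, for `x` of type `a`, is inside. -/
theorem le_cent_a {x : G} (hx : x ≠ 1) (hxa : n x = a) {R : Subgroup G} [R.Normal]
    (hR : (Nat.card R).Coprime a) : R ≤ cent x := by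
  have hC := A.card_cent_a hx hxa
  have h1 : Nat.card (cent x ⊔ R : Subgroup G) ∣ b := by
    have h2 : (Nat.card (cent x ⊔ R : Subgroup G)).Coprime a :=
      (Nat.Coprime.mul_left (hC ▸ A.types.cop.symm) hR).coprime_dvd_left (card_sup_dvd _ _)
    exact h2.dvd_of_dvd_mul_left (A.card_eq ▸ Subgroup.card_subgroup_dvd_card _)
  have h3 := Subgroup.eq_of_le_of_card_ge (le_sup_left : cent x ≤ cent x ⊔ R)
    (by rw [hC]; exact Nat.le_of_dvd A.types.b_pos h1)
  rw [h3]
  exact le_sup_right

/-- Type `b` elements lie in conjugates of the abelian subgroup. -/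
theorem exists_conj_B {B : Subgroup G} (hB : Nat.card B = a) (hcc : ∀ h ∈ B, h ≠ 1 → cent h = B)
    {g : G} (hg : g ≠ 1) (hgb : n g = b) : ∃ h : G, h * g * h⁻¹ ∈ B := by
  obtain ⟨q, k, hq, hk, hkb⟩ := A.types.exists_prime_b hg hgb
  have hk1 := Ito7.ne_one_of_order hq hk
  have hqa : q ∣ a := A.dvd_a_of_b hk1 hkb hq (Ito7.prime_dvd_card hk _ (self_mem_cent _))
  obtain ⟨h, hh⟩ := exists_conj_mem (i := 1) hq (A.not_dvd_index_of_a hB hq hqa)
    (u := g ^ k) (by rw [hk, pow_one])
  refine ⟨h, ?_⟩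
  rw [← hcc _ hh (fun e => hk1 (conj_eq_one_iff.1 e)), mem_cent, Commute.conj_iff]
  exact (Commute.refl g).pow_right k

variable {R : Subgroup G}

/-- The basic data in a nonsolvable group with nontrivial radical. -/
theorem exists_U (hR : R.Normal) (hRs : Group.IsSolvable R) (hne : R ≠ ⊥) :
    ∃ (r : ℕ) (U : Subgroup G), r.Prime ∧ U.Normal ∧ IsPGroup r U ∧ U ≠ ⊥ ∧ U ≤ R := by
  classical
  obtain ⟨N, hN, hmin⟩ := Set.Finite.exists_minimalFor (fun N : Subgroup G => Nat.card N)
    {N | N ≤ R ∧ N.Normal ∧ N ≠ ⊥} (Set.toFinite _) ⟨R, le_rfl, hR, hne⟩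
  haveI := hN.2.1
  haveI : Nontrivial N := (Subgroup.nontrivial_iff_ne_bot N).2 hN.2.2
  haveI : Group.IsSolvable N := isSolvable_of_le hN.1 hRs
  have hcom : ⁅N, N⁆ = ⊥ := by
    by_contra h
    have h1 : ⁅N, N⁆ ≤ N := Subgroup.commutator_le_left _ _
    have h2 := Subgroup.eq_of_le_of_card_ge h1
      (hmin ⟨h1.trans hN.1, inferInstance, h⟩ (Subgroup.card_le_of_le h1))
    refine (IsSolvable.commutator_lt_top_of_nontrivial (G := N)).ne ?_
    apply Subgroup.map_injective N.subtype_injective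
    rw [Subgroup.map_subtype_commutator, h2, ← MonoidHom.range_eq_map, Subgroup.range_subtype]
  have hab : ∀ x ∈ N, ∀ y ∈ N, Commute x y := fun x hx y hy =>
    commutatorElement_eq_one_iff_commute.1 (Subgroup.mem_bot.1
      (hcom ▸ Subgroup.commutator_mem_commutator hx hy))
  obtain ⟨r, hr, hrd⟩ := Nat.exists_prime_and_dvd
    (fun h => hN.2.2 (Subgroup.eq_bot_of_card_eq N h))
  let U : Subgroup G :=
    { carrier := {x | x ∈ N ∧ x ^ r = 1}
      mul_mem' := fun {x y} hx hy => ⟨mul_mem hx.1 hy.1, by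
        rw [(hab x hx.1 y hy.1).mul_pow, hx.2, hy.2, mul_one]⟩
      one_mem' := ⟨one_mem _, one_pow _⟩
      inv_mem' := fun {x} hx => ⟨inv_mem hx.1, by rw [inv_pow, hx.2, inv_one]⟩ }
  refine ⟨r, U, hr, ⟨fun x hx g => ⟨hN.2.1.conj_mem x hx.1 g, by
    rw [conj_pow, hx.2, mul_one, mul_inv_cancel]⟩⟩,
    fun x => ⟨1, Subtype.ext (by rw [pow_one]; exact x.2.2)⟩, ?_, fun x hx => hN.1 hx.1⟩
  obtain ⟨u, hu, huo⟩ := exists_prime_order N hr hrd
  intro h
  have : u ∈ U := ⟨hu, huo ▸ pow_orderOf_eq_one u⟩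
  rw [h, Subgroup.mem_bot] at this
  exact Ito7.ne_one_of_order hr huo this

theorem normal_centralizer (U : Subgroup G) [U.Normal] :
    (Subgroup.centralizer (U : Set G)).Normal := inferInstance

/-- The primes of the normal `r`-subgroup do not divide `a`. -/
theorem not_dvd_a_of_U (hns : ¬ Group.IsSolvable G) {r : ℕ} (hr : r.Prime) {U : Subgroup G}
    [U.Normal] (hU : IsPGroup r U) (hU1 : U ≠ ⊥) : ¬ r ∣ a := by
  intro hra
  haveI := Fact.mk hr
  have T := A.types
  obtain ⟨⟨v, hvU⟩, hv'⟩ := Subgroup.ne_bot_iff_exists_ne_one.1 hU1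
  have hv : v ≠ 1 := fun h => hv' (Subtype.ext h)
  set M := Subgroup.centralizer (U : Set G) with hM
  haveI : M.Normal := inferInstance
  have hvb : n v = b := A.type_b_of_order hr hra hv (KegelWielandt.orderOf_of_mem_pgroup hU hvU)
  have hMv : M ≤ cent v := fun g hg => mem_cent.2
    ((Subgroup.mem_centralizer_iff.1 hg v hvU).symm)
  have hMa : Nat.card M ∣ a := A.card_cent_b hv hvb ▸ Subgroup.card_dvd_of_le hMv
  have hcop : M.index.Coprime a := by
    refine Nat.coprime_of_dvd fun q hq hqi hqa => ?_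
    haveI := Fact.mk hq
    obtain ⟨P⟩ := (inferInstance : Nonempty (Sylow q G))
    refine P.not_dvd_index (hqi.trans (Subgroup.index_dvd_of_le fun g hg => ?_))
    by_cases hg1 : g = 1
    · exact hg1 ▸ one_mem _
    have hgb := A.type_b_of_order hq hqa hg1 (KegelWielandt.orderOf_of_mem_pgroup P.2 hg)
    refine Subgroup.mem_centralizer_iff.2 fun y hy => ?_
    exact (mem_cent.1 (sylow_ge_of_index hU
      (A.not_dvd_index_of_a (A.card_cent_b hg1 hgb) hr hra) hy)).eq
  have hcard : Nat.card M = a := Nat.dvd_antisymm hMa (hcop.symm.dvd_of_dvd_mul_right (by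
    rw [Subgroup.card_mul_index]; exact T.a_dvd_card))
  obtain ⟨x, hx, hxa⟩ := T.exa
  haveI : Group.IsSolvable (cent x) := T.isSolvable_cent hx
  haveI : Group.IsSolvable M := isSolvable_of_le hMv (T.isSolvable_cent hv)
  refine hns (isSolvable_of_normal M inferInstance ?_)
  let f : cent x →* G ⧸ M := (QuotientGroup.mk' M).comp (cent x).subtype
  have hf : Function.Injective f := by
    rw [injective_iff_map_eq_one]
    intro y hy
    have h1 : (y : G) ∈ M := (QuotientGroup.eq_one_iff _).1 hy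
    have h2 := M.orderOf_dvd_natCard h1
    have h3 := (cent x).orderOf_dvd_natCard y.2
    rw [hcard] at h2
    rw [A.card_cent_a hx hxa] at h3
    exact Subtype.ext (orderOf_eq_one_iff.1 (Nat.eq_one_of_dvd_coprimes T.cop h2 h3))
  have hc : Nat.card (cent x) = Nat.card (G ⧸ M) := by
    rw [A.card_cent_a hx hxa, ← Subgroup.index_eq_card]
    have h1 := Subgroup.card_mul_index M
    rw [hcard, A.card_eq] at h1
    exact (Nat.eq_of_mul_eq_mul_left T.a_pos h1).symm
  exact Group.isSolvable_of_surjective (f := f)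
    ((Nat.bijective_iff_injective_and_card f).2 ⟨hf, hc⟩).2

/-- The abelian cyclic subgroup of order `a`. -/
theorem exists_B_fit (hns : ¬ Group.IsSolvable G) (hR : R.Normal) (hRs : Group.IsSolvable R)
    (hne : R ≠ ⊥) :
    ∃ B : Subgroup G, Nat.card B = a ∧ IsCyclic B ∧ (∀ x ∈ B, ∀ y ∈ B, Commute x y) ∧
      ∀ h ∈ B, h ≠ 1 → cent h = B := by
  classical
  have T := A.types
  obtain ⟨r, U, hr, hUn, hU, hU1, -⟩ := A.exists_U hR hRs hne
  haveI := hUn
  haveI := Fact.mk hr
  have hra := A.not_dvd_a_of_U hns hr hU hU1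
  obtain ⟨q, hq, hqa⟩ := Nat.exists_prime_and_dvd T.one_a
  haveI := Fact.mk hq
  -- elements of type `b` act without fixed points
  have hfix : ∀ g : G, g ≠ 1 → n g = b → ∀ u ∈ U, Commute u g → u = 1 := by
    intro g hg hgb u hu hc
    have h1 := (cent g).orderOf_dvd_natCard (mem_cent.2 hc)
    rw [A.card_cent_b hg hgb] at h1
    obtain ⟨i, hi⟩ := KegelWielandt.orderOf_of_mem_pgroup hU hu
    refine orderOf_eq_one_iff.1 (Nat.eq_one_of_dvd_coprimes ?_ (dvd_refl (orderOf u)) h1)
    rw [hi]
    exact Nat.Coprime.pow_left _ (hr.coprime_iff_not_dvd.2 hra)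
  have hcyc : ∀ E : Subgroup G, IsMulCommutative E → (∀ g ∈ E, g ≠ 1 → n g = b) → IsCyclic E := by
    intro E hE hb
    haveI := hE
    refine Frobenius.IsFPF.isCyclic_of_isMulCommutative (A := E) (V := U)
      (Frobenius.isFPF_of_normal fun g hg hg1 => ?_) hU1
    rw [Subgroup.eq_bot_iff_forall]
    rintro u ⟨hu, hc⟩
    exact hfix g hg1 (hb g hg hg1) u hu (Subgroup.mem_centralizer_singleton_iff.1 hc)
  obtain ⟨P⟩ := (inferInstance : Nonempty (Sylow q G))
  have hPb : ∀ g ∈ (P : Subgroup G), g ≠ 1 → n g = b := fun g hg hg1 =>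
    A.type_b_of_order hq hqa hg1 (KegelWielandt.orderOf_of_mem_pgroup P.2 hg)
  have hqG : q ∣ Nat.card (P : Subgroup G) := P.dvd_card_of_dvd_card (hqa.trans T.a_dvd_card)
  haveI : Nontrivial (P : Subgroup G) := by
    rw [← Finite.one_lt_card_iff_nontrivial]
    exact lt_of_lt_of_le hq.one_lt (Nat.le_of_dvd Nat.card_pos hqG)
  haveI := P.2.center_nontrivial
  obtain ⟨⟨⟨z₀, hz₀P⟩, hz₀c⟩, hz₀1⟩ := exists_ne (1 : Subgroup.center (P : Subgroup G))
  have hz₀1' : z₀ ≠ 1 := fun h => hz₀1 (Subtype.ext (Subtype.ext h))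
  obtain ⟨q', k, hq', hk⟩ := Ito7.exists_prime_power_one hz₀1'
  set z := z₀ ^ k with hzdef
  have hzP : z ∈ (P : Subgroup G) := pow_mem hz₀P k
  have hz1 := Ito7.ne_one_of_order hq' hk
  have hqq : q' = q := by
    obtain ⟨i, hi⟩ := KegelWielandt.orderOf_of_mem_pgroup P.2 hzP
    rw [hk] at hi
    exact (Nat.prime_dvd_prime_iff_eq hq' hq).1 (hq'.dvd_of_dvd_pow (hi ▸ dvd_rfl : q' ∣ q ^ i))
  subst hqq
  set B := cent z with hBdef
  have hPB : (P : Subgroup G) ≤ B := fun g hg => mem_cent.2
    ((show Commute g z₀ from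
      congrArg Subtype.val (Subgroup.mem_center_iff.1 hz₀c ⟨g, hg⟩)).pow_right k)
  have hB : Nat.card B = a := A.card_cent_b hz1 (hPb z hzP hz1)
  -- all elements of `P` have centralizer `B`
  have hP' : ∀ h ∈ (P : Subgroup G), h ≠ 1 → cent h = B := by
    intro h hh h1
    obtain ⟨s, j, hs, hj⟩ := Ito7.exists_prime_power_one h1
    have hjP : h ^ j ∈ (P : Subgroup G) := pow_mem hh j
    have hj1 := Ito7.ne_one_of_order hs hj
    obtain ⟨i, hi⟩ := KegelWielandt.orderOf_of_mem_pgroup P.2 hjP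
    rw [hj] at hi
    have hsq : s = q' :=
      (Nat.prime_dvd_prime_iff_eq hs hq).1 (hs.dvd_of_dvd_pow (dvd_of_eq hi))
    subst hsq
    have hcz : Commute z (h ^ j) := (mem_cent.1 (hPB hjP)).symm
    set E := Subgroup.closure ({z, h ^ j} : Set G) with hE
    have hEc : IsMulCommutative E := Subgroup.isMulCommutative_closure (by
      rintro x (rfl | rfl) y (rfl | rfl)
      exacts [rfl, hcz.eq, hcz.eq.symm, rfl])
    have hEP : E ≤ (P : Subgroup G) := (Subgroup.closure_le _).2 (by
      rintro x (rfl | rfl)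
      exacts [hzP, hjP])
    haveI := hcyc E hEc fun g hg hg1 => hPb g (hEP hg) hg1
    haveI := Fintype.ofFinite E
    -- the subgroup of order `s` is unique
    have hmem : h ^ j ∈ Subgroup.zpowers z := by
      by_contra hnot
      let z' : E := ⟨z, Subgroup.subset_closure (Or.inl rfl)⟩
      let y' : E := ⟨h ^ j, Subgroup.subset_closure (Or.inr rfl)⟩
      have hsub : insert y' (Finset.univ.filter fun x : E => x ∈ Subgroup.zpowers z') ⊆
          Finset.univ.filter (fun x : E => x ^ s = 1) := by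
        intro x hx
        rw [Finset.mem_insert, Finset.mem_filter] at hx
        refine Finset.mem_filter.2 ⟨Finset.mem_univ _, ?_⟩
        rcases hx with rfl | ⟨-, hx⟩
        · exact Subtype.ext (by
            show (h ^ j) ^ s = 1
            rw [← hj]; exact pow_orderOf_eq_one _)
        · obtain ⟨i, rfl⟩ := mem_powers_iff_mem_zpowers.2 hx
          refine Subtype.ext ?_
          show (z ^ i) ^ s = 1
          rw [← pow_mul, mul_comm, pow_mul, ← hk, pow_orderOf_eq_one, one_pow]
      have hy' : y' ∉ Finset.univ.filter fun x : E => x ∈ Subgroup.zpowers z' := fun hy => by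
        obtain ⟨i, hi⟩ := (Finset.mem_filter.1 hy).2
        exact hnot ⟨i, congrArg Subtype.val hi⟩
      have h1 := (Finset.card_le_card hsub).trans (IsCyclic.card_pow_eq_one_le hs.pos)
      rw [Finset.card_insert_of_notMem hy', ← Fintype.card_subtype, ← Nat.card_eq_fintype_card,
        Nat.card_zpowers, ← Subgroup.orderOf_coe] at h1
      rw [show ((z' : E) : G) = z from rfl, hk] at h1
      omega
    have hle : cent z ≤ cent (h ^ j) := by
      obtain ⟨i, hi⟩ := mem_powers_iff_mem_zpowers.2 hmem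
      rw [← hi]; exact cent_le_pow z i
    have e1 := cent_eq_of_le hle ((hPb z hzP hz1).trans (hPb _ hjP hj1).symm)
    have e2 := cent_eq_of_le (cent_le_pow h j) ((hPb h hh h1).trans (hPb _ hjP hj1).symm)
    rw [hBdef, e2, e1]
  have hPnd : ¬ q' ∣ ((P : Subgroup G).subgroupOf B).index :=
    fun hd => P.not_dvd_index
      (hd.trans (Dvd.intro _ (Subgroup.relIndex_mul_index hPB)))
  -- elements of prime power order in `B` are central in it
  have hcen : ∀ s : ℕ, s.Prime → ∀ h ∈ B, h ≠ 1 → (∃ i, orderOf h = s ^ i) → cent h = B := by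
    intro s hs h hh h1 ⟨i, hi⟩
    by_cases hsq : s = q'
    · subst hsq
      obtain ⟨β, hβ⟩ := exists_conj_mem (G := B) (i := i) hs hPnd (u := ⟨h, hh⟩)
        (by rw [Subgroup.orderOf_mk, hi])
      have hβP : (β : G) * h * (β : G)⁻¹ ∈ (P : Subgroup G) := hβ
      have e := hP' _ hβP (fun e => h1 (conj_eq_one_iff.1 e))
      ext y
      rw [mem_cent, ← Commute.conj_iff (β : G), ← mem_cent, e]
      constructor
      · intro hy
        have := mul_mem (mul_mem (inv_mem β.2) hy) β.2
        rwa [show (β : G)⁻¹ * ((β : G) * y * (β : G)⁻¹) * (β : G) = y by group] at this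
      · exact fun hy => mul_mem (mul_mem β.2 hy) (inv_mem β.2)
    · have hcop : (orderOf z).Coprime (orderOf h) := by
        rw [hk, hi]; exact Nat.Coprime.pow_right i ((Nat.coprime_primes hq hs).2 (Ne.symm hsq))
      have hzh : Commute z h := (mem_cent.1 hh).symm
      have hle := cent_mul hzh hcop
      have hzb := hPb z hzP hz1
      have hi0 : i ≠ 0 := fun e => h1 (orderOf_eq_one_iff.1 (by rw [hi, e, pow_zero]))
      have hhb : n h = b := by
        refine A.type_b_of_dvd hs ?_ h1 ((dvd_pow_self s hi0).trans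
          (hi ▸ (cent h).orderOf_dvd_natCard (self_mem_cent h)))
        rw [← hB]
        exact (dvd_pow_self s hi0).trans (hi ▸ B.orderOf_dvd_natCard hh)
      have hmb : n (z * h) = b := by
        refine A.type_b_of_dvd hq hqa (Ito7.mul_ne_one_of_coprime hz1 hcop) ?_
        exact Ito7.prime_dvd_card hk _ (hle ▸ ⟨self_mem_cent z, mem_cent.2 hzh⟩)
      rw [hBdef, ← cent_eq_of_le (hle.le.trans inf_le_left) (hmb.trans hzb.symm),
        ← cent_eq_of_le (hle.le.trans inf_le_right) (hmb.trans hhb.symm)]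
  have hab : ∀ x ∈ B, ∀ y ∈ B, Commute x y := by
    have h1 : B ≤ Subgroup.centralizer (B : Set G) :=
      KegelWielandt.le_of_prime_pow_mem fun s hs _ x hx hxo =>
        Subgroup.mem_centralizer_iff.2 fun y hy => by
          by_cases hx1 : x = 1
          · simp [hx1]
          exact (mem_cent.1 ((hcen s hs x hx hx1 hxo).symm ▸ hy : y ∈ cent x)).eq
    exact fun x hx y hy => (Subgroup.mem_centralizer_iff.1 (h1 hy) x hx)
  have hcc : ∀ h ∈ B, h ≠ 1 → cent h = B := by
    intro h hh h1
    obtain ⟨s, j, hs, hj⟩ := Ito7.exists_prime_power_one h1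
    refine le_antisymm ((cent_le_pow h j).trans
      (hcen s hs _ (pow_mem hh j) (Ito7.ne_one_of_order hs hj) ⟨1, by rw [hj, pow_one]⟩).le)
      fun y hy => mem_cent.2 (hab y hy h hh)
  refine ⟨B, hB, hcyc B ⟨⟨fun x y => Subtype.ext (hab _ x.2 _ y.2).eq⟩⟩ (fun g hg hg1 => ?_),
    hab, hcc⟩
  obtain ⟨s, j, hs, hj⟩ := Ito7.exists_prime_power_one hg1
  refine A.type_b_of_dvd hs ?_ hg1
    (Ito7.prime_dvd_card hj _ (pow_mem (self_mem_cent g) j))
  rw [← hB]
  exact Ito7.prime_dvd_card hj _ (pow_mem hg j)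

/-- The radical has order prime to `a`. -/
theorem coprime_radical (hns : ¬ Group.IsSolvable G) [R.Normal] (hRs : Group.IsSolvable R)
    {B : Subgroup G} (hB : Nat.card B = a) (hBc : IsCyclic B)
    (hcc : ∀ h ∈ B, h ≠ 1 → cent h = B) : (Nat.card R).Coprime a := by
  have T := A.types
  refine Nat.coprime_of_dvd fun q hq hqR hqa => hns ?_
  haveI := Fact.mk hq
  obtain ⟨Q⟩ := (inferInstance : Nonempty (Sylow q R))
  set W := (Q : Subgroup R).map R.subtype with hW
  -- a Sylow subgroup of `G` inside `B`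
  obtain ⟨RB⟩ := (inferInstance : Nonempty (Sylow q B))
  let S : Sylow q G := Sylow.ofCard ((RB : Subgroup B).map B.subtype) (by
    rw [Subgroup.card_map_of_injective B.subtype_injective, RB.card_eq_multiplicity]
    congr 1
    rw [← Subgroup.card_mul_index B, Nat.factorization_mul Nat.card_pos.ne'
      Subgroup.index_ne_zero_of_finite, Finsupp.add_apply,
      Nat.factorization_eq_zero_of_not_dvd (A.not_dvd_index_of_a hB hq hqa), add_zero])
  obtain ⟨S', hS'⟩ := (Q.2.map R.subtype : IsPGroup q W).exists_le_sylow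
  haveI : IsCyclic (S : Subgroup G) := by
    haveI := hBc
    haveI : IsCyclic (RB : Subgroup B) := inferInstance
    exact isCyclic_of_surjective ((RB : Subgroup B).equivMapOfInjective _ B.subtype_injective)
      (MulEquiv.surjective _)
  haveI : IsCyclic (S' : Subgroup G) :=
    isCyclic_of_surjective (Sylow.equiv S S') (Sylow.equiv S S').surjective
  haveI hWc : IsCyclic W := Subgroup.isCyclic_of_le hS'
  have hW1 : ∃ w ∈ W, w ≠ 1 := by
    have h1 : q ∣ Nat.card (Q : Subgroup R) := Q.dvd_card_of_dvd_card hqR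
    obtain ⟨w, hw, hwo⟩ := exists_prime_order (Q : Subgroup R) hq h1
    exact ⟨w, Subgroup.mem_map_of_mem _ hw, fun e => Ito7.ne_one_of_order hq hwo (Subtype.ext e)⟩
  obtain ⟨w, hwW, hw1⟩ := hW1
  set N₀ := Subgroup.normalizer (W : Set G) with hN₀
  have hN₀s : Group.IsSolvable N₀ := by
    let φ := W.normalizerMonoidHom
    let e := IsCyclic.mulAutMulEquiv (G := W)
    letI : CommGroup (MulAut W) := e.toMonoidHom.commGroupOfInjective e.injective
    haveI : Group.IsSolvable φ.ker := by
      rw [Subgroup.normalizerMonoidHom_ker]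
      refine isSolvable_of_le (B := (cent w).subgroupOf N₀)
        (fun g hg => mem_cent.2 ((Subgroup.mem_centralizer_iff.1 hg w hwW).symm)) ?_
      haveI := T.isSolvable_cent hw1
      exact Group.isSolvable_of_isSolvable_injective (f :=
        ((N₀.subtype.comp ((cent w).subgroupOf N₀).subtype).codRestrict (cent w) fun x => x.2))
        (fun x y h => Subtype.ext (Subtype.ext (congrArg Subtype.val h : _)))
    exact Group.isSolvable_of_ker_le_range φ.ker.subtype φ (by rw [Subgroup.range_subtype])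
  haveI := hN₀s
  refine isSolvable_of_normal R hRs (Group.isSolvable_of_surjective
    (f := (QuotientGroup.mk' R).comp N₀.subtype) ?_)
  intro y
  obtain ⟨g, rfl⟩ := QuotientGroup.mk'_surjective R y
  obtain ⟨n₁, hn₁, r, hr, rfl⟩ := Subgroup.mem_sup_of_normal_right.1
    ((Sylow.normalizer_sup_eq_top Q).symm ▸ Subgroup.mem_top g : g ∈ N₀ ⊔ R)
  exact ⟨⟨n₁, hn₁⟩, (QuotientGroup.mk_mul_of_mem n₁ hr).symm⟩

end Apart

end Cfsg.Agent.ThreeSize7
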