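import Cfsg.Agent.ThreeSize7.Basic
import Cfsg.Agent.S4033

/-!
# Centralizers of elements of prime order

In a group with three class sizes of the types `a ∣ c`, `b`, the centralizer of an element of
order `p` is solvable and has a nilpotent `p`-complement.
-/

set_option autoImplicit false
set_option linter.unusedSectionVars false
set_option linter.style.haveILetI false

namespace Cfsg.Agent.ThreeSize7

open Agent.Ito7 (cent mem_cent self_mem_cent cent_le_pow cent_mul)

universe u

/-- A nilpotent subgroup of order prime to `p` and of `p`-power index. -/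
def HasNilCompl (p : ℕ) (K : Type u) [Group K] : Prop :=
  ∃ H : Subgroup K, Group.IsNilpotent H ∧ ¬ p ∣ Nat.card H ∧ ∃ k, H.index = p ^ k

section

variable {K : Type u} [Group K] [Finite K]

theorem index_pow_of_sylow_le {p : ℕ} (H : Subgroup K)
    (h : ∀ r : ℕ, r.Prime → r ≠ p → ∃ R : Sylow r K, (R : Subgroup K) ≤ H) :
    ∃ k, H.index = p ^ k :=
  ⟨_, Nat.eq_prime_pow_of_unique_prime_dvd Subgroup.index_ne_zero_of_finite fun {r} hr hd => by
    by_contra hne
    obtain ⟨R, hR⟩ := h r hr hne
    haveI := Fact.mk hr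
    exact R.not_dvd_index (hd.trans (Subgroup.index_dvd_of_le hR))⟩

theorem coprime_mul {p : ℕ} {x y : K} (hc : Commute x y) (hx : (orderOf x).Coprime p)
    (hy : (orderOf y).Coprime p) : (orderOf (x * y)).Coprime p :=
  (Nat.Coprime.mul_left hx hy).coprime_dvd_left hc.orderOf_mul_dvd_mul_orderOf

theorem sylow_elem_coprime {p r : ℕ} (hp : p.Prime) (hr : r.Prime) (hne : r ≠ p) (R : Sylow r K)
    {g : K} (hg : g ∈ (R : Subgroup K)) : (orderOf g).Coprime p := by
  haveI := Fact.mk hr
  obtain ⟨k, hk⟩ := KegelWielandt.orderOf_of_mem_pgroup R.2 hg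
  rw [hk]
  exact Nat.Coprime.pow_left k ((Nat.coprime_primes hr hp).2 hne)

theorem hasNilCompl_of_central {p : ℕ} (hp : p.Prime)
    (h : ∀ u : K, (orderOf u).Coprime p → ∀ g : K, Commute g u) : HasNilCompl p K := by
  let H : Subgroup K :=
    { carrier := {u | (orderOf u).Coprime p}
      mul_mem' := fun {x y} hx hy => coprime_mul (h y hy x) hx hy
      one_mem' := by simp
      inv_mem' := fun {x} hx => by simpa using hx }
  haveI : Fact p.Prime := ⟨hp⟩
  refine ⟨H, ?_, fun hd => ?_, index_pow_of_sylow_le H fun r hr hne => ?_⟩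
  · haveI : IsMulCommutative H := ⟨⟨fun x y => Subtype.ext (h (y : K) y.2 x).eq⟩⟩
    letI : CommGroup H := IsMulCommutative.instCommGroup
    infer_instance
  · obtain ⟨x, hx⟩ := exists_prime_orderOf_dvd_card' (G := H) p hd
    have hx2 : (orderOf (x : K)).Coprime p := x.2
    rw [Subgroup.orderOf_coe, hx, Nat.coprime_self] at hx2
    exact hp.one_lt.ne' hx2
  · haveI := Fact.mk hr
    obtain ⟨R⟩ := (inferInstance : Nonempty (Sylow r K))
    exact ⟨R, fun g hg => sylow_elem_coprime hp hr hne R hg⟩

theorem carrier_ncard (u : K) :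
    (ConjClasses.mk u).carrier.ncard = (Subgroup.centralizer ({u} : Set K)).index := by
  rw [Subgroup.centralizer_eq_comap_stabilizer]
  symm
  refine (Subgroup.index_comap_of_surjective _ (ConjAct.toConjAct (G := K)).surjective).trans ?_
  rw [MulAction.index_stabilizer, ConjAct.orbit_eq_carrier_conjClasses]

/-- Two class sizes of `p`-regular elements give a nilpotent `p`-complement. -/
theorem hasNilCompl_of_two {p : ℕ} (hp : p.Prime) {e : ℕ}
    (h : ∀ u : K, (orderOf u).Coprime p →
      (Subgroup.centralizer ({u} : Set K)).index = 1 ∨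
        (Subgroup.centralizer ({u} : Set K)).index = e) : HasNilCompl p K := by
  haveI : Fact p.Prime := ⟨hp⟩
  by_cases hall : ∀ u : K, (orderOf u).Coprime p →
      (Subgroup.centralizer ({u} : Set K)).index = 1
  · refine hasNilCompl_of_central hp fun u hu g => ?_
    exact Subgroup.mem_centralizer_singleton_iff.1
      ((Subgroup.index_eq_one.1 (hall u hu)).symm ▸ Subgroup.mem_top g)
  push Not at hall
  obtain ⟨u, hu, hu1⟩ := hall
  set S := Set.range fun x : {x : K // (orderOf x).Coprime p} =>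
    (ConjClasses.mk (x : K)).carrier.ncard with hS
  have he : (Subgroup.centralizer ({u} : Set K)).index = e := (h u hu).resolve_left hu1
  have hone : (Subgroup.centralizer ({(1 : K)} : Set K)).index = 1 :=
    Subgroup.index_eq_one.2 (eq_top_iff.2 fun g _ =>
      Subgroup.mem_centralizer_singleton_iff.2 (by simp))
  have hSe : S = {1, e} := by
    refine Set.Subset.antisymm ?_ ?_
    · rintro _ ⟨⟨x, hx⟩, rfl⟩
      rcases h x hx with e' | e' <;> simp [carrier_ncard, e']
    · rintro _ (rfl | rfl)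
      · exact ⟨⟨1, by simp⟩, (carrier_ncard 1).trans hone⟩
      · exact ⟨⟨u, hu⟩, (carrier_ncard u).trans he⟩
  have h2 : S.ncard = 2 := by
    rw [hSe, Set.ncard_pair (fun e' => hu1 (he.trans e'.symm))]
  rcases S4033.result hp h2 with ⟨H, hH, hpH, k, hk⟩ | ⟨q, hq, P, Q, A, hqp, hA, hc, hn, hinf, hsup⟩
  · refine ⟨H, ?_, hpH, k, hk⟩
    haveI := hH
    letI : CommGroup H := IsMulCommutative.instCommGroup
    infer_instance
  -- the complement is `Q A`
  have hcomm : ∀ (x : (Q : Subgroup K)) (y : A), Commute (x : K) (y : K) := fun x y =>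
    Subgroup.mem_center_iff.1 (hA y.2) x
  let f : ↥(Q : Subgroup K) × ↥A →* K :=
    (Q : Subgroup K).subtype.noncommCoprod A.subtype hcomm
  haveI : IsMulCommutative A :=
    ⟨⟨fun x y => Subtype.ext (Subgroup.mem_center_iff.1 (hA y.2) x)⟩⟩
  have hAn : Group.IsNilpotent A := by
    letI : CommGroup A := IsMulCommutative.instCommGroup
    infer_instance
  have hpA : ¬ p ∣ Nat.card A := by
    intro hd
    obtain ⟨x, hx⟩ := exists_prime_orderOf_dvd_card' (G := A) p hd
    have hxc : (x : K) ∈ Subgroup.center K := hA x.2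
    have hx' : orderOf (x : K) = p := by rw [Subgroup.orderOf_coe, hx]
    have hz : IsPGroup p (Subgroup.zpowers (x : K)) :=
      IsPGroup.of_card (n := 1) (by rw [Nat.card_zpowers, hx', pow_one])
    haveI hzn : (Subgroup.zpowers (x : K)).Normal := ⟨fun y hy g => by
      have hyc : y ∈ Subgroup.center K := (Subgroup.zpowers_le.2 hxc) hy
      rwa [Subgroup.mem_center_iff.1 hyc g, mul_inv_cancel_right]⟩
    have hxP : (x : K) ∈ (P : Subgroup K) := by
      have := P.3 (P.2.to_sup_of_normal_right hz) le_sup_left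
      exact this ▸ Subgroup.mem_sup_right (Subgroup.mem_zpowers _)
    have hb : (x : K) ∈ (⊥ : Subgroup K) := hinf ▸ ⟨Subgroup.mem_sup_left hxP, x.2⟩
    rw [Subgroup.mem_bot] at hb
    rw [hb, orderOf_one] at hx'
    exact hp.one_lt.ne hx'
  refine ⟨f.range, ?_, fun hd => ?_, index_pow_of_sylow_le _ fun r hr hne => ?_⟩
  · haveI := hAn
    haveI := (Q.2).isNilpotent
    exact Group.nilpotent_of_surjective f.rangeRestrict f.rangeRestrict_surjective
  · have h1 := hd.trans (Subgroup.card_range_dvd f)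
    rw [Nat.card_prod] at h1
    rcases hp.dvd_mul.1 h1 with h | h
    · obtain ⟨k, hk⟩ := Q.2.exists_card_eq
      rw [hk] at h
      exact hqp ((Nat.prime_dvd_prime_iff_eq hp hq.out).1 (hp.dvd_of_dvd_pow h)).symm
    · exact hpA h
  · haveI := Fact.mk hr
    have hrange : f.range = (Q : Subgroup K) ⊔ A := by
      have h1 := MonoidHom.noncommCoprod_range (f := (Q : Subgroup K).subtype) (g := A.subtype)
        (comm := hcomm)
      rwa [Subgroup.range_subtype, Subgroup.range_subtype] at h1
    rw [hrange]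
    by_cases hrq : r = q
    · subst hrq
      exact ⟨Q, le_sup_left⟩
    obtain ⟨R⟩ := (inferInstance : Nonempty (Sylow r K))
    refine ⟨R, fun g hg => Subgroup.mem_sup_right ?_⟩
    set N := (P : Subgroup K) ⊔ (Q : Subgroup K) with hN
    haveI hAn : A.Normal := ⟨fun y hy g => by
      rwa [Subgroup.mem_center_iff.1 (hA hy) g, mul_inv_cancel_right]⟩
    rw [← QuotientGroup.eq_one_iff (N := A), ← orderOf_eq_one_iff]
    refine Nat.eq_one_of_dvd_coprimes (a := Nat.card N) (b := orderOf g) ?_ ?_
      (orderOf_map_dvd (QuotientGroup.mk' A) g)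
    · obtain ⟨k, hk⟩ := KegelWielandt.orderOf_of_mem_pgroup R.2 hg
      obtain ⟨i, hi⟩ := P.2.exists_card_eq
      obtain ⟨j, hj⟩ := Q.2.exists_card_eq
      rw [hc, hi, hj, hk]
      exact Nat.Coprime.mul_left
        (Nat.Coprime.pow i k ((Nat.coprime_primes hp hr).2 (Ne.symm hne)))
        (Nat.Coprime.pow j k ((Nat.coprime_primes hq.out hr).2 (Ne.symm hrq)))
    · obtain ⟨y, hy, z, hz, hyz⟩ := Subgroup.mem_sup_of_normal_right.1
        (hsup.symm ▸ Subgroup.mem_top g : g ∈ N ⊔ A)
      have e : (g : K ⧸ A) = (y : K ⧸ A) := by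
        rw [← hyz]; exact QuotientGroup.mk_mul_of_mem y hz
      rw [show ((g : K ⧸ A)) = QuotientGroup.mk' A y from e]
      exact (orderOf_map_dvd _ y).trans (N.orderOf_dvd_natCard hy)

/-- Such groups are solvable. -/
theorem HasNilCompl.isSolvable {p : ℕ} (hp : p.Prime) (h : HasNilCompl p K) :
    Group.IsSolvable K := by
  haveI : Fact p.Prime := ⟨hp⟩
  obtain ⟨H, hH, hpH, k, hk⟩ := h
  obtain ⟨P⟩ := (inferInstance : Nonempty (Sylow p K))
  refine isSolvable_of_card_mul H P hH P.2.isNilpotent ?_ ?_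
  · obtain ⟨i, hi⟩ := P.2.exists_card_eq
    rw [hi]
    exact Nat.Coprime.pow_right _ ((hp.coprime_iff_not_dvd.2 hpH).symm)
  · rw [← Subgroup.card_mul_index H, hk]
    congr 1
    rw [P.card_eq_multiplicity, ← Subgroup.card_mul_index H, hk,
      Nat.factorization_mul Nat.card_pos.ne' (pow_ne_zero _ hp.ne_zero), Finsupp.add_apply,
      Nat.factorization_eq_zero_of_not_dvd hpH, hp.factorization_pow, Finsupp.single_eq_same,
      zero_add]

/-- An `r`-element has class size prime to `t` in such a group, for distinct primes `r, t ≠ p`. -/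
theorem HasNilCompl.not_dvd {p r t : ℕ} (h : HasNilCompl p K) (hr : r.Prime) (ht : t.Prime)
    (hrt : r ≠ t) (hrp : r ≠ p) (htp : t ≠ p) (hp : p.Prime) {u : K} (hu : ∃ k, orderOf u = r ^ k) :
    ¬ t ∣ (Subgroup.centralizer ({u} : Set K)).index := by
  haveI := Fact.mk hr
  haveI := Fact.mk ht
  obtain ⟨H, hH, hpH, k, hk⟩ := h
  have key : ∀ s : ℕ, s.Prime → s ≠ p → ∀ (_ : Fact s.Prime),
      ∃ S : Sylow s K, (S : Subgroup K) ≤ H := by
    intro s hs hsp _
    obtain ⟨S⟩ := (inferInstance : Nonempty (Sylow s H))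
    refine ⟨Sylow.ofCard ((S : Subgroup H).map H.subtype) ?_, Subgroup.map_subtype_le _⟩
    rw [Subgroup.card_map_of_injective H.subtype_injective, S.card_eq_multiplicity]
    congr 1
    rw [← Subgroup.card_mul_index H, hk,
      Nat.factorization_mul Nat.card_pos.ne' (pow_ne_zero _ hp.ne_zero), Finsupp.add_apply,
      hp.factorization_pow, Finsupp.single_apply, if_neg (fun e => hsp e.symm), add_zero]
  obtain ⟨R, hR⟩ := key r hr hrp inferInstance
  obtain ⟨S, hS⟩ := key t ht htp inferInstance
  obtain ⟨i, hi⟩ := hu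
  have hz : IsPGroup r (Subgroup.zpowers u) :=
    IsPGroup.of_card (n := i) (by rw [Nat.card_zpowers, hi])
  obtain ⟨R', hR'⟩ := hz.exists_le_sylow
  obtain ⟨g, hg⟩ := MulAction.exists_smul_eq K R' R
  have hgu : g * u * g⁻¹ ∈ (R : Subgroup K) := by
    rw [← hg, Sylow.coe_subgroup_smul, Frobenius.mem_conj_smul]
    simpa [mul_assoc] using hR' (Subgroup.mem_zpowers u)
  intro hd
  rw [show (Subgroup.centralizer ({u} : Set K)).index =
      (Subgroup.centralizer ({g * u * g⁻¹} : Set K)).index from
    (Ito7.index_cent_conj g u).symm] at hd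
  refine S.not_dvd_index (hd.trans (Subgroup.index_dvd_of_le fun s hs => ?_))
  refine mem_cent.2 (KegelWielandt.commute_of_mem hH (hS hs) (hR hgu) ?_)
  obtain ⟨j, hj⟩ := KegelWielandt.orderOf_of_mem_pgroup S.2 hs
  obtain ⟨l, hl⟩ := KegelWielandt.orderOf_of_mem_pgroup R.2 hgu
  rw [hj, hl]
  exact Nat.Coprime.pow j l ((Nat.coprime_primes ht hr).2 (Ne.symm hrt))

end

namespace Types

variable {G : Type u} [Group G] [Finite G] {a b c : ℕ} (T : Types G a b c)

/-- Class sizes inside a centralizer. -/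
theorem relIndex_mul (z : G) (u : cent z) (hcop : (orderOf z).Coprime (orderOf (u : G))) :
    (Subgroup.centralizer ({u} : Set (cent z))).index * n z = n (z * (u : G)) := by
  have hc : Commute z (u : G) := (mem_cent.1 u.2).symm
  have e : Subgroup.centralizer ({u} : Set (cent z)) = (cent (u : G)).subgroupOf (cent z) := by
    ext g
    rw [Subgroup.mem_subgroupOf, Subgroup.mem_centralizer_singleton_iff, mem_cent]
    exact ⟨fun h => congrArg Subtype.val h, fun h => Subtype.ext h⟩
  rw [e, show ((cent (u : G)).subgroupOf (cent z)).index = (cent (u : G)).relIndex (cent z) from rfl,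
    n, n, cent_mul hc hcop, ← Subgroup.inf_relIndex_right, inf_comm]
  exact Subgroup.relIndex_mul_index inf_le_left

include T

theorem hasNilCompl {p : ℕ} (hp : p.Prime) {z : G} (hz : orderOf z = p) :
    HasNilCompl p (cent z) := by
  have hz1 : z ≠ 1 := Ito7.ne_one_of_order hp hz
  have hn := T.n_ne_one hz1
  -- the possible class sizes in the centralizer
  have key : ∀ e₀ : ℕ, (∀ m : ℕ, (m = a ∨ m = b ∨ m = c) → n z ∣ m → m = n z ∨ m = e₀) →
      HasNilCompl p (cent z) := by
    intro e₀ he
    refine hasNilCompl_of_two (K := cent z) hp (e := e₀ / n z) fun u hu => ?_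
    have hu' : (orderOf z).Coprime (orderOf (u : G)) := by
      rw [hz, Subgroup.orderOf_coe]; exact hu.symm
    have hm := Types.relIndex_mul z u hu'
    have hne : z * (u : G) ≠ 1 := Ito7.mul_ne_one_of_coprime hz1 hu'
    rcases he _ (T.cases _ hne) ⟨_, (mul_comm _ _).trans hm |>.symm⟩ with e | e
    · left
      rw [e] at hm
      exact Nat.eq_of_mul_eq_mul_right (n_pos z) (hm.trans (one_mul _).symm)
    · right
      rw [← e, ← hm, Nat.mul_div_cancel _ (n_pos z)]
  rcases T.cases z hz1 with e | e | e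
  · refine key c fun m hm hd => ?_
    rw [e] at hd ⊢
    rcases hm with rfl | rfl | rfl
    exacts [Or.inl rfl, absurd hd T.nab, Or.inr rfl]
  · refine key c fun m hm hd => ?_
    rw [e] at hd ⊢
    rcases hm with rfl | rfl | rfl
    exacts [absurd hd T.nba, Or.inl rfl, Or.inr rfl]
  · refine key c fun m hm hd => ?_
    rw [e] at hd ⊢
    rcases hm with rfl | rfl | rfl
    exacts [absurd hd T.nca, absurd hd T.ncb, Or.inl rfl]

theorem isSolvable_cent {g : G} (hg : g ≠ 1) : Group.IsSolvable (cent g) := by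
  obtain ⟨p, k, hp, hk⟩ := Ito7.exists_prime_power_one hg
  exact isSolvable_of_le (cent_le_pow g k) ((T.hasNilCompl hp hk).isSolvable hp)

theorem not_dvd_relIndex {p r t : ℕ} (hp : p.Prime) (hr : r.Prime) (ht : t.Prime)
    (hrt : r ≠ t) (hrp : r ≠ p) (htp : t ≠ p) {z u : G} (hz : orderOf z = p) (hu : orderOf u = r)
    (hc : Commute u z) : ¬ t ∣ n (z * u) / n z := by
  have hu' : (orderOf z).Coprime (orderOf u) := by
    rw [hz, hu]; exact (Nat.coprime_primes hp hr).2 (Ne.symm hrp)
  let v : cent z := ⟨u, mem_cent.2 hc⟩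
  rw [show n (z * u) = _ from (Types.relIndex_mul z v hu').symm,
    Nat.mul_div_cancel _ (n_pos z)]
  exact (T.hasNilCompl hp hz).not_dvd hr ht hrt hrp htp hp
    ⟨1, by rw [pow_one, ← Subgroup.orderOf_coe]; exact hu⟩

end Types

end Cfsg.Agent.ThreeSize7
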