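import Cfsg.Agent.ThreeSize7.Comm

/-!
# No commuting elements of the coprime types: the orders of the centralizers
-/

set_option autoImplicit false
set_option linter.unusedSectionVars false
set_option linter.style.haveILetI false

namespace Cfsg.Agent.ThreeSize7

open Agent.Ito7 (cent mem_cent self_mem_cent cent_le_pow cent_mul)

universe u

variable {G : Type u} [Group G] [Finite G]

/-- No element of type `a` commutes with one of type `b`. -/
structure Apart (G : Type u) [Group G] (a b c : ℕ) : Prop extends Types G a b c where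
  apart : ∀ x y : G, x ≠ 1 → y ≠ 1 → n x = a → n y = b → ¬ Commute x y

theorem Types.apart_of_not_solvable {a b c : ℕ} (T : Types G a b c)
    (hns : ¬ Group.IsSolvable G) : Apart G a b c :=
  ⟨T, fun _ _ hx hy hxa hyb hc => hns (T.isSolvable_of_commute hx hy hxa hyb hc)⟩

/-- A conjugate of a `t`-element lies in a subgroup of index prime to `t`. -/
theorem exists_conj_mem {t i : ℕ} (ht : t.Prime) {H : Subgroup G} (hH : ¬ t ∣ H.index) {u : G}
    (hu : orderOf u = t ^ i) : ∃ g : G, g * u * g⁻¹ ∈ H := by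
  haveI := Fact.mk ht
  obtain ⟨S⟩ := (inferInstance : Nonempty (Sylow t H))
  have hz : IsPGroup t (Subgroup.zpowers u) :=
    IsPGroup.of_card (n := i) (by rw [Nat.card_zpowers, hu])
  obtain ⟨T, hT⟩ := hz.exists_le_sylow
  let R : Sylow t G := Sylow.ofCard ((S : Subgroup H).map H.subtype) (by
    rw [Subgroup.card_map_of_injective H.subtype_injective, S.card_eq_multiplicity]
    congr 1
    rw [← Subgroup.card_mul_index H, Nat.factorization_mul Nat.card_pos.ne'
      Subgroup.index_ne_zero_of_finite, Finsupp.add_apply,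
      Nat.factorization_eq_zero_of_not_dvd hH, add_zero])
  obtain ⟨g, hg⟩ := MulAction.exists_smul_eq G T R
  refine ⟨g, Subgroup.map_subtype_le (S : Subgroup H) ?_⟩
  show g * u * g⁻¹ ∈ (R : Subgroup G)
  rw [← hg, Sylow.coe_subgroup_smul, Frobenius.mem_conj_smul]
  simpa [mul_assoc] using hT (Subgroup.mem_zpowers u)

namespace Apart

variable {a b c : ℕ} (A : Apart G a b c)
include A

theorem types : Types G a b c := A.toTypes

theorem not_dvd_cent_a {p : ℕ} (hp : p.Prime) (hpa : p ∣ a) {x : G} (hx : x ≠ 1)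
    (hxa : n x = a) : ¬ p ∣ Nat.card (cent x) := by
  have T := A.types
  haveI := Fact.mk hp
  intro hd
  have hnot : ∀ u : G, orderOf u = p → n u ≠ a ∧ ∃ z, z ≠ 1 ∧ Commute u z ∧ n z = b := by
    intro u hu
    obtain ⟨z, hz1, hzi, hzc⟩ := Ito7.exists_central_order hu
    have hzb : n z = b := by
      rcases T.cases z hz1 with e | e | e <;> rw [show (cent z).index = n z from rfl, e] at hzi
      exacts [absurd hpa hzi, e, absurd (hpa.trans T.dvd) hzi]
    exact ⟨fun h => A.apart u z (Ito7.ne_one_of_order hp hu) hz1 h hzb hzc, z, hz1, hzc, hzb⟩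
  obtain ⟨u, hux, hu⟩ := exists_prime_order _ hp hd
  obtain ⟨hun, z, hz1, hzc, hzb⟩ := hnot u hu
  obtain ⟨s, k, hs, hk, hka⟩ := T.exists_prime_a hx hxa
  have hu1 := Ito7.ne_one_of_order hp hu
  have hk1 := Ito7.ne_one_of_order hs hk
  have hua : Commute u (x ^ k) := (mem_cent.1 hux).pow_right k
  rcases T.cases u hu1 with e | e | e
  · exact hun e
  · exact A.apart (x ^ k) u hk1 hu1 hka e hua.symm
  · have hsp : p ≠ s := fun h => (hnot (x ^ k) (h ▸ hk)).1 hka
    have hcop : (orderOf u).Coprime (orderOf (x ^ k)) := by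
      rw [hu, hk]; exact (Nat.coprime_primes hp hs).2 hsp
    have hle := cent_mul hua hcop
    have hm : n (u * x ^ k) = c := by
      have hd := (Types.dvd_mul_coprime T hua hcop).1
      rw [e] at hd
      rcases T.cases _ (Ito7.mul_ne_one_of_coprime hu1 hcop) with e' | e' | e' <;> rw [e'] at hd
      exacts [absurd hd T.nca, absurd hd T.ncb, e']
    have he := cent_eq_of_le (hle.le.trans inf_le_left) (hm.trans e.symm)
    exact A.apart (x ^ k) z hk1 hz1 hka hzb
      (mem_cent.1 ((he ▸ hle.le.trans inf_le_right) (mem_cent.2 hzc.symm))).symm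

theorem coprime_card_a {x : G} (hx : x ≠ 1) (hxa : n x = a) :
    (Nat.card (cent x)).Coprime a :=
  Nat.coprime_of_dvd fun _ hp h1 h2 => A.not_dvd_cent_a hp h2 hx hxa h1

theorem card_c_dvd {g x : G} (hg : n g = c) (hx : n x = a) :
    Nat.card (cent g) ∣ Nat.card (cent x) := by
  obtain ⟨e, he⟩ := A.types.dvd
  have h1 := card_cent_mul g
  rw [hg, he, ← card_cent_mul x, hx, mul_comm a e, ← mul_assoc] at h1
  exact ⟨e, (Nat.eq_of_mul_eq_mul_right A.types.a_pos h1).symm⟩

/-- A prime of `a` in a centralizer forces type `b`. -/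
theorem type_b_of_dvd {g : G} {p : ℕ} (hp : p.Prime) (hpa : p ∣ a) (hg : g ≠ 1)
    (hd : p ∣ Nat.card (cent g)) : n g = b := by
  obtain ⟨x, hx, hxa⟩ := A.types.exa
  rcases A.types.cases g hg with e | e | e
  · exact absurd hd (A.not_dvd_cent_a hp hpa hg e)
  · exact e
  · exact absurd (hd.trans (A.card_c_dvd e hxa)) (A.not_dvd_cent_a hp hpa hx hxa)

theorem not_b_of_order {u : G} {r : ℕ} (hr : r.Prime) (hu : orderOf u = r) (hra : ¬ r ∣ a) :
    n u ≠ b := by
  obtain ⟨x, hx, hxa⟩ := A.types.exa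
  obtain ⟨g, hg⟩ := exists_conj_mem (i := 1) hr (H := cent x) (u := u)
    (by rw [show (cent x).index = n x from rfl, hxa]; exact hra) (by rw [hu, pow_one])
  intro h
  refine A.apart x (g * u * g⁻¹) hx ?_ hxa ?_ (mem_cent.1 hg).symm
  · intro e
    exact Ito7.ne_one_of_order hr hu (conj_eq_one_iff.1 e)
  · exact (Ito7.index_cent_conj g u).trans h

theorem dvd_a_of_b {w : G} (hw : w ≠ 1) (hwb : n w = b) {r : ℕ} (hr : r.Prime)
    (hd : r ∣ Nat.card (cent w)) : r ∣ a := by
  have T := A.types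
  by_contra hra
  obtain ⟨u, huw, hu⟩ := exists_prime_order _ hr hd
  rw [mem_cent] at huw
  have hu1 := Ito7.ne_one_of_order hr hu
  rcases T.cases u hu1 with e | e | e
  · exact A.apart u w hu1 hw e hwb huw
  · exact A.not_b_of_order hr hu hra e
  · obtain ⟨q, k, hq, hk, hkb⟩ := T.exists_prime_b hw hwb
    have hqa : q ∣ a := by
      by_contra h; exact A.not_b_of_order hq hk h hkb
    obtain ⟨x, hx, hxa⟩ := T.exa
    exact A.not_dvd_cent_a hq hqa hx hxa
      ((Ito7.prime_dvd_card hk _ (mem_cent.2 (huw.pow_right k).symm)).trans (A.card_c_dvd e hxa))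

theorem card_pair {w x : G} (hw : w ≠ 1) (hwb : n w = b) (hx : x ≠ 1) (hxa : n x = a) :
    Nat.card (cent w) = a ∧ Nat.card (cent x) = b := by
  have h1 := card_cent_mul w
  have h2 := card_cent_mul x
  rw [hwb] at h1
  rw [hxa] at h2
  have e : Nat.card (cent w) * b = Nat.card (cent x) * a := h1.trans h2.symm
  have hco : Nat.Coprime (Nat.card (cent w)) (Nat.card (cent x)) :=
    Nat.coprime_of_dvd fun r hr hw' hx' =>
      A.not_dvd_cent_a hr (A.dvd_a_of_b hw hwb hr hw') hx hxa hx'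
  have ha : Nat.card (cent w) = a := Nat.dvd_antisymm
    (hco.dvd_of_dvd_mul_left (e ▸ dvd_mul_right _ _))
    (A.types.cop.dvd_of_dvd_mul_right (e.symm ▸ dvd_mul_left _ _))
  refine ⟨ha, ?_⟩
  rw [ha, mul_comm] at e
  exact (Nat.eq_of_mul_eq_mul_right A.types.a_pos e).symm

theorem card_cent_b {w : G} (hw : w ≠ 1) (hwb : n w = b) : Nat.card (cent w) = a := by
  obtain ⟨x, hx, hxa⟩ := A.types.exa
  exact (A.card_pair hw hwb hx hxa).1

theorem card_cent_a {x : G} (hx : x ≠ 1) (hxa : n x = a) : Nat.card (cent x) = b := by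
  obtain ⟨w, hw, hwb⟩ := A.types.exb
  exact (A.card_pair hw hwb hx hxa).2

theorem card_eq : Nat.card G = a * b := by
  obtain ⟨w, hw, hwb⟩ := A.types.exb
  rw [← card_cent_mul w, A.card_cent_b hw hwb, hwb]

/-- An element whose order has only primes of `a` has type `b`. -/
theorem type_b_of_order {g : G} {q : ℕ} (hq : q.Prime) (hqa : q ∣ a) (hg : g ≠ 1)
    (hgo : ∃ i, orderOf g = q ^ i) : n g = b := by
  obtain ⟨i, hi⟩ := hgo
  have hi0 : i ≠ 0 := fun e => hg (orderOf_eq_one_iff.1 (by rw [hi, e, pow_zero]))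
  exact A.type_b_of_dvd hq hqa hg ((dvd_pow_self q hi0).trans
    (hi ▸ (cent g).orderOf_dvd_natCard (self_mem_cent g)))

/-- The abelian subgroup of order `a` when `a` has two primes. -/
theorem exists_B {p q : ℕ} (hp : p.Prime) (hq : q.Prime) (hpq : p ≠ q) (hpa : p ∣ a) (hqa : q ∣ a) :
    ∃ B : Subgroup G, Nat.card B = a ∧ (∀ x ∈ B, ∀ y ∈ B, Commute x y) ∧
      ∀ h ∈ B, h ≠ 1 → cent h = B := by
  obtain ⟨w₀, hw₀⟩ : ∃ w : G, orderOf w = p := by
    haveI := Fact.mk hp
    exact exists_prime_orderOf_dvd_card' p (hpa.trans A.types.a_dvd_card)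
  have hw₀1 := Ito7.ne_one_of_order hp hw₀
  have hw := A.type_b_of_order hp hpa hw₀1 ⟨1, by rw [hw₀, pow_one]⟩
  have hB := A.card_cent_b hw₀1 hw
  set B := cent w₀ with hBdef
  have hsame : ∀ h ∈ B, h ≠ 1 → Nat.card (cent h) = a := by
    intro h hh h1
    obtain ⟨r, j, hr, hj⟩ := Ito7.exists_prime_power_one h1
    refine A.card_cent_b h1 (A.type_b_of_dvd hr ?_ h1
      (Ito7.prime_dvd_card hj _ (pow_mem (self_mem_cent h) j)))
    rw [← hB]
    exact Ito7.prime_dvd_card hj _ (pow_mem hh j)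
  obtain ⟨v, hvB, hv⟩ := exists_prime_order B hq (hB ▸ hqa)
  have hv1 := Ito7.ne_one_of_order hq hv
  have hpair : ∀ x ∈ B, ∀ y ∈ B, x ≠ 1 → y ≠ 1 → Commute x y →
      (orderOf x).Coprime (orderOf y) → cent x = cent y := by
    intro x hx y hy x1 y1 hxy hco
    have h := cent_mul hxy hco
    have hm := mul_mem hx hy
    have hm1 := Ito7.mul_ne_one_of_coprime x1 hco
    have ea : cent (x * y) = cent x := Subgroup.eq_of_le_of_card_ge (h.le.trans inf_le_left)
      (by rw [hsame _ hm hm1, hsame _ hx x1])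
    have ec : cent (x * y) = cent y := Subgroup.eq_of_le_of_card_ge (h.le.trans inf_le_right)
      (by rw [hsame _ hm hm1, hsame _ hy y1])
    exact ea.symm.trans ec
  have hwB : w₀ ∈ B := self_mem_cent w₀
  have hvw : cent w₀ = cent v := hpair w₀ hwB v hvB hw₀1 hv1 (mem_cent.1 hvB).symm
    (by rw [hw₀, hv]; exact (Nat.coprime_primes hp hq).2 hpq)
  have hcen : ∀ r i : ℕ, r.Prime → ∀ h ∈ B, orderOf h = r ^ i → h ≠ 1 → B ≤ cent h := by
    intro r i hr h hh ho h1
    by_cases hrp : r = p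
    · rw [hBdef, hvw, hpair v hvB h hh hv1 h1 (mem_cent.1 (hvw ▸ hh)).symm
        (by rw [hv, ho, hrp]; exact ((Nat.coprime_primes hq hp).2 (Ne.symm hpq)).pow_right i)]
    · rw [hBdef, hpair w₀ hwB h hh hw₀1 h1 (mem_cent.1 hh).symm
        (by rw [hw₀, ho]; exact ((Nat.coprime_primes hp hr).2 (Ne.symm hrp)).pow_right i)]
  have hab : ∀ x ∈ B, ∀ y ∈ B, Commute x y := by
    have htop : Subgroup.center B = ⊤ := by
      refine Subgroup.eq_top_of_card_eq _ (Nat.dvd_antisymm (Subgroup.card_subgroup_dvd_card _)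
        ((Nat.dvd_iff_prime_pow_dvd_dvd _ _).2 fun r i hr hd => ?_))
      haveI := Fact.mk hr
      obtain ⟨R⟩ := (inferInstance : Nonempty (Sylow r B))
      refine (R.pow_dvd_card_of_pow_dvd_card hd).trans (Subgroup.card_dvd_of_le fun h hh => ?_)
      rw [Subgroup.mem_center_iff]
      intro g
      by_cases h1 : h = 1
      · simp [h1]
      obtain ⟨j, hj⟩ := (IsPGroup.iff_orderOf.1 R.2) ⟨h, hh⟩
      rw [Subgroup.orderOf_mk] at hj
      have := hcen r j hr (h : G) h.2 (by rw [Subgroup.orderOf_coe, hj])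
        (fun e => h1 (Subtype.ext e)) g.2
      exact Subtype.ext (mem_cent.1 this).eq
    intro x hx y hy
    exact congrArg Subtype.val
      (Subgroup.mem_center_iff.1 (htop ▸ Subgroup.mem_top (⟨y, hy⟩ : B)) ⟨x, hx⟩)
  exact ⟨B, hB, hab, fun h hh h1 => (Subgroup.eq_of_le_of_card_ge
    (fun y hy => mem_cent.2 (hab y hy h hh)) (by rw [hB, hsame h hh h1])).symm⟩

end Apart

end Cfsg.Agent.ThreeSize7
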