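import Cfsg.Agent.Ito7.Perm

/-!
# The permutation character, when every nontrivial normal subgroup contains `B`

The proof follows `Ito7.card_fixedBy_eq_one`.
-/

set_option autoImplicit false
set_option linter.unusedSectionVars false

open Finset
open scoped ComplexConjugate

namespace Cfsg.Agent.ThreeSize7

open Agent.Ito7 (cent mem_cent irr_one_of_comm norm_sum_le_card degree_coprime)

universe u

variable {G : Type u} [Group G] [Finite G]

/-- Burnside's vanishing for characters without the trivial constituent on `B`. -/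
theorem irr_apply_eq_zero {B : Subgroup G} [Fintype B]
    (hker : ∀ N : Subgroup G, N.Normal → N ≠ ⊥ → B ≤ N) (χ : Cfsg.IrrCharacter G)
    (horth : Cfsg.classInner (fun h : B => (χ : G → ℂ) h) 1 = 0) {g : G}
    (hg : g ∉ Subgroup.center G)
    (hcop : ∀ d : ℕ, (χ : G → ℂ) 1 = d → Nat.Coprime d (cent g).index) :
    (χ : G → ℂ) g = 0 := by
  have := Fintype.ofFinite G
  obtain ⟨d, hd0, hd⟩ := CharCore.IsIrrCharacter.exists_degree χ.2
  obtain ⟨χ, n, ρ, hρ, rfl⟩ := χ
  haveI := hρ
  have hc' : Nat.Coprime (Module.finrank ℂ (Fin n → ℂ))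
      (Subgroup.centralizer ({g} : Set G)).index :=
    hcop _ (Representation.char_one ρ)
  rcases CharCore.eq_zero_or_norm_eq_of_coprime ρ g hc' with h | h
  · exact h
  exfalso
  obtain ⟨c, hc⟩ := (CharCore.norm_character_eq_iff ρ g).mp h
  rcases eq_or_ne ρ.ker ⊥ with hk | hk
  · have hinj : Function.Injective ρ := (MonoidHom.ker_eq_bot_iff ρ).mp hk
    refine hg (Subgroup.mem_center_iff.mpr fun x => hinj ?_)
    rw [map_mul, map_mul, hc]
    ext v
    simp
  · have hall : ∀ h : B, ρ.character (h : G) = (n : ℂ) := fun h => by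
      have := (CharCore.character_eq_finrank_iff ρ (h : G)).mpr
        (MonoidHom.mem_ker.mp (hker _ inferInstance hk h.2))
      simpa using this
    have h0 : (∑ h : B, ρ.character (h : G)) = 0 := by
      rw [Cfsg.classInner, mul_eq_zero, inv_eq_zero] at horth
      simpa using horth.resolve_left (Nat.cast_ne_zero.mpr Nat.card_pos.ne')
    simp only [hall, Finset.sum_const, Finset.card_univ, nsmul_eq_mul] at h0
    rcases mul_eq_zero.1 h0 with h0 | h0
    · exact Fintype.card_ne_zero (Nat.cast_eq_zero.1 h0)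
    · have hn : n = 0 := by exact_mod_cast h0
      subst hn
      have h1 : ρ.character 1 = (d : ℂ) := hd
      rw [Representation.char_one] at h1
      have h2 : d = 0 := by simpa using h1.symm
      omega

/-- An element with class size `|B|` fixes exactly one coset of `C`. -/
theorem card_fixedBy_eq_one {B C : Subgroup G}
    (hker : ∀ N : Subgroup G, N.Normal → N ≠ ⊥ → B ≤ N)
    (hBab : ∀ x ∈ B, ∀ y ∈ B, Commute x y) (hcc : ∀ h ∈ B, h ≠ 1 → cent h = B)
    {p q : ℕ} (hp : p.Prime) (hq : q.Prime) (hpq : p ≠ q) (hpb : p ∣ Nat.card B)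
    (hqb : q ∣ Nat.card B) (hcop : Nat.Coprime (Nat.card C) (Nat.card B))
    (hidx : C.index = Nat.card B) {a : G} (ha : a ∉ Subgroup.center G)
    (haidx : (cent a).index = Nat.card B) :
    Nat.card (MulAction.fixedBy (G ⧸ C) a) = 1 := by
  classical
  have := Fintype.ofFinite G
  have := Fintype.ofFinite B
  have := Fintype.ofFinite C
  set b := Nat.card B with hb
  set π : G → ℂ := Cfsg.indFun C (fun _ => (1 : ℂ)) with hπ
  have hπe : π = Cfsg.indFun C (fun _ => (1 : ℂ)) := rfl
  have hπc : Cfsg.IsCharacter G π := by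
    rw [hπe]
    exact CharInd.isCharacter_indFun _ (by simpa using CharCore.isCharacter_natCast (G := C) 1)
  have hπ1 : π 1 = b := by rw [hπe, CharInd.indFun_apply_one, hidx, mul_one]
  have hπh : ∀ h : B, h ≠ 1 → π h = 0 := by
    intro h hh
    rw [hπe]
    refine CharInd.indFun_eq_zero_of_forall_notMem _ _ fun x hx => hh ?_
    have h1 : orderOf (x⁻¹ * (h : G) * x) ∣ Nat.card C := C.orderOf_dvd_natCard hx
    have h2 : orderOf (x⁻¹ * (h : G) * x) = orderOf (h : G) := by
      have := orderOf_injective (MulAut.conj x⁻¹).toMonoidHom (MulAut.conj x⁻¹).injective (h : G)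
      simpa using this
    have h3 : orderOf (h : G) ∣ Nat.card B := B.orderOf_dvd_natCard h.2
    exact Subtype.ext (orderOf_eq_one_iff.1 (Nat.eq_one_of_dvd_coprimes hcop (h2 ▸ h1) h3))
  -- `⟨f, π|B⟩ = f 1`
  have hreg : ∀ f : B → ℂ, Cfsg.classInner f (fun h : B => π h) = f 1 := by
    intro f
    rw [Cfsg.classInner, Finset.sum_eq_single (1 : B)
      (fun h _ hh => by rw [hπh h hh, map_zero, mul_zero]) (by simp)]
    rw [Subgroup.coe_one, hπ1, Complex.conj_natCast, ← mul_assoc, mul_comm _ (f 1), mul_assoc,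
      inv_mul_cancel₀ (Nat.cast_ne_zero.2 Nat.card_pos.ne'), mul_one]
  -- decomposition of `π`
  obtain ⟨k, hk⟩ := CharCore.IsCharacter.exists_sum hπc
  let χ₀ : Cfsg.IrrCharacter G := ⟨1, CharCore.isIrrCharacter_one⟩
  have hk0 : k χ₀ = 1 := by
    have h1 : Cfsg.classInner π (χ₀ : G → ℂ) = 1 := by
      rw [hπe, CharInd.classInner_indFun_left _ _ (CharCore.irr_isClassFunction χ₀)]
      simp [Cfsg.classInner, χ₀, Nat.card_eq_fintype_card]
    rw [hk, CharCore.classInner_sum_all (fun ψ => (k ψ : ℂ))] at h1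
    exact_mod_cast h1
  -- every nonprincipal constituent vanishes at `a`
  have hvan : ∀ χ : Cfsg.IrrCharacter G, χ ≠ χ₀ → k χ ≠ 0 → (χ : G → ℂ) a = 0 := by
    intro χ hχ hkχ
    obtain ⟨L, hL0, hL⟩ := CharCore.IsIrrCharacter.exists_degree χ.2
    have hχB : Cfsg.IsCharacter B (fun h : B => (χ : G → ℂ) h) :=
      CharCore.isCharacter_restrict (CharCore.irr_isCharacter χ) B
    obtain ⟨l, hl⟩ := CharCore.IsCharacter.exists_sum hχB
    -- multiplicities in the restriction
    have hmult : ∀ ψ : Cfsg.IrrCharacter B,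
        ∑ φ : Cfsg.IrrCharacter G, (k φ : ℂ) *
          Cfsg.classInner (fun h : B => (φ : G → ℂ) h) (ψ : B → ℂ) = 1 := by
      intro ψ
      have e : (fun h : B => π h) =
          ∑ φ : Cfsg.IrrCharacter G, (k φ : ℂ) • (fun h : B => (φ : G → ℂ) h) := by
        funext h
        simp [hk, Finset.sum_apply]
      have h1 : Cfsg.classInner (fun h : B => π h) (ψ : B → ℂ) = 1 := by
        have h2 := hreg (ψ : B → ℂ)
        rw [irr_one_of_comm (fun x y => Subtype.ext (hBab _ x.2 _ y.2).eq) ψ] at h2
        rw [← CharInd.classInner_swap, h2, map_one]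
      rw [e, CharCore.classInner_sum_left] at h1
      simpa only [CharCore.classInner_smul_left] using h1
    -- natural numbers
    have hnat : ∀ (φ : Cfsg.IrrCharacter G) (ψ : Cfsg.IrrCharacter B), ∃ n : ℕ,
        Cfsg.classInner (fun h : B => (φ : G → ℂ) h) (ψ : B → ℂ) = n := fun φ ψ =>
      CharCore.IsCharacter.exists_classInner_irr_eq_natCast
        (CharCore.isCharacter_restrict (CharCore.irr_isCharacter φ) B) ψ
    choose e he using hnat
    have hsum : ∀ ψ, ∑ φ : Cfsg.IrrCharacter G, k φ * e φ ψ = 1 := by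
      intro ψ
      have := hmult ψ
      simp only [he] at this
      exact_mod_cast this
    have hle : ∀ φ ψ, k φ * e φ ψ ≤ 1 := fun φ ψ =>
      hsum ψ ▸ Finset.single_le_sum (f := fun φ => k φ * e φ ψ) (fun _ _ => Nat.zero_le _)
        (Finset.mem_univ φ)
    have hel : ∀ ψ, e χ ψ = l ψ := by
      intro ψ
      have := he χ ψ
      rw [hl, CharCore.classInner_sum_all (fun ψ => (l ψ : ℂ))] at this
      exact_mod_cast this.symm
    -- the trivial character of `B`
    let ψ₀ : Cfsg.IrrCharacter B := ⟨1, CharCore.isIrrCharacter_one⟩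
    have he0 : e χ₀ ψ₀ = 1 := by
      have := he χ₀ ψ₀
      have h1 := CharCore.classInner_irr_self ψ₀
      rw [show (fun h : B => (χ₀ : G → ℂ) h) = (ψ₀ : B → ℂ) from rfl, h1] at this
      exact_mod_cast this.symm
    have horth : Cfsg.classInner (fun h : B => (χ : G → ℂ) h) 1 = 0 := by
      have h2 : k χ * e χ ψ₀ = 0 := by
        have h3 := Finset.add_sum_erase Finset.univ (fun φ => k φ * e φ ψ₀)
          (Finset.mem_univ χ₀)
        rw [hsum ψ₀, hk0, he0] at h3
        have h3' : ∑ φ ∈ Finset.univ.erase χ₀, k φ * e φ ψ₀ = 0 := by omega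
        exact Finset.sum_eq_zero_iff.1 h3' χ (by simp [hχ])
      have h4 : e χ ψ₀ = 0 := (mul_eq_zero.1 h2).resolve_left hkχ
      have := he χ ψ₀
      rw [h4, Nat.cast_zero] at this
      exact this
    have hfree : Cfsg.classInner (fun h : B => (χ : G → ℂ) h) (fun h : B => (χ : G → ℂ) h) =
        L := by
      have h5 : ∀ ψ, (l ψ : ℂ) * conj (l ψ : ℂ) = (l ψ : ℂ) := by
        intro ψ
        have h6 : l ψ ≤ 1 := by
          rw [← hel]
          exact le_trans (Nat.le_mul_of_pos_left _ (Nat.pos_of_ne_zero hkχ)) (hle χ ψ)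
        interval_cases (l ψ) <;> simp
      have h7 : (L : ℂ) = ∑ ψ : Cfsg.IrrCharacter B, (l ψ : ℂ) := by
        have h8 := congrFun hl 1
        simp only [Subgroup.coe_one, hL, Finset.sum_apply, Pi.smul_apply, smul_eq_mul] at h8
        rw [h8]
        refine Finset.sum_congr rfl fun ψ _ => ?_
        rw [irr_one_of_comm (fun x y => Subtype.ext (hBab _ x.2 _ y.2).eq) ψ, mul_one]
      rw [hl, CharCore.classInner_sum_sum (fun ψ => (l ψ : ℂ)) (fun ψ => (l ψ : ℂ)), h7]
      exact Finset.sum_congr rfl fun ψ _ => h5 ψ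
    have hLb : L < b := by
      have h9 := congrFun hk 1
      rw [hπ1] at h9
      choose d hd0 hd using fun φ : Cfsg.IrrCharacter G =>
        CharCore.IsIrrCharacter.exists_degree φ.2
      simp only [Finset.sum_apply, Pi.smul_apply, smul_eq_mul, hd] at h9
      have h10 : b = ∑ φ : Cfsg.IrrCharacter G, k φ * d φ := by exact_mod_cast h9
      have h11 : ({χ₀, χ} : Finset (Cfsg.IrrCharacter G)) ⊆ Finset.univ := Finset.subset_univ _
      have h12 := Finset.sum_le_sum_of_subset (f := fun φ => k φ * d φ) h11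
      rw [Finset.sum_pair (Ne.symm hχ), hk0, ← h10] at h12
      have h13 : d χ = L := by
        have := hd χ
        rw [hL] at this
        exact_mod_cast this.symm
      have h14 : d χ₀ ≤ 1 * d χ₀ := by omega
      have h15 : d χ ≤ k χ * d χ := Nat.le_mul_of_pos_left _ (Nat.pos_of_ne_zero hkχ)
      have := hd0 χ₀
      omega
    refine irr_apply_eq_zero hker χ horth ha fun d hd => ?_
    rw [haidx]
    rw [hL] at hd
    have : L = d := by exact_mod_cast hd
    subst this
    exact degree_coprime hBab hcc hp hq hpq hpb hqb χ L hL hL0 hLb horth hfree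
  have hval : π a = 1 := by
    rw [hk, Finset.sum_apply, Finset.sum_eq_single χ₀]
    · simp [hk0, χ₀]
    · intro χ _ hχ
      by_cases h : k χ = 0
      · simp [h]
      · simp [hvan χ hχ h]
    · simp
  rw [hπe, CharInd.indFun_one_eq_fixedBy] at hval
  exact_mod_cast hval

end Cfsg.Agent.ThreeSize7
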