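import Cfsg.Agent.ThreeSize7.NC
import Cfsg.Agent.ThreeSize7.Perm
import Cfsg.Agent.Kazarin19.Main
import Cfsg.Agent.Lib.Frobenius.Nilpotent
import Cfsg.Agent.Lib.Frobenius.Kernel

/-!
# Trivial solvable radical
-/

set_option autoImplicit false
set_option linter.unusedSectionVars false
set_option linter.style.haveILetI false

namespace Cfsg.Agent.ThreeSize7

open Agent.Ito7 (cent mem_cent self_mem_cent cent_le_pow cent_mul)

universe u

variable {G : Type u} [Group G] [Finite G]

theorem exists_minimal_normal_le {M : Subgroup G} (hM : M.Normal) (hne : M ≠ ⊥) :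
    ∃ N : Subgroup G, N ≤ M ∧ N.Normal ∧ N ≠ ⊥ ∧
      ∀ L : Subgroup G, L.Normal → L ≤ N → L = ⊥ ∨ L = N := by
  classical
  obtain ⟨N, hN, hmin⟩ := Set.Finite.exists_minimalFor (fun N : Subgroup G => Nat.card N)
    {N | N ≤ M ∧ N.Normal ∧ N ≠ ⊥} (Set.toFinite _) ⟨M, le_rfl, hM, hne⟩
  refine ⟨N, hN.1, hN.2.1, hN.2.2, fun L hL hle => ?_⟩
  by_cases h : L = ⊥
  · exact Or.inl h
  · exact Or.inr (Subgroup.eq_of_le_of_card_ge hle
      (hmin ⟨hle.trans hN.1, hL, h⟩ (Subgroup.card_le_of_le hle)))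

namespace Apart

variable {a b c : ℕ} (A : Apart G a b c)
include A

/-- The abelian subgroup lies in every nontrivial normal subgroup. -/
theorem B_le (hR : ∀ N : Subgroup G, N.Normal → Group.IsSolvable N → N = ⊥) {B : Subgroup G}
    (hB : Nat.card B = a) (hab : ∀ x ∈ B, ∀ y ∈ B, Commute x y)
    (hcc : ∀ h ∈ B, h ≠ 1 → cent h = B) {M : Subgroup G} (hM : M.Normal) (hne : M ≠ ⊥) :
    B ≤ M := by
  classical
  obtain ⟨N, hNM, hN, hN1, hmin⟩ := exists_minimal_normal_le hM hne
  haveI := hN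
  refine le_trans ?_ hNM
  have T := A.types
  have hns : ¬ Group.IsSolvable N := fun h => hN1 (hR N hN h)
  -- `B` meets `N`
  have hmeet : B ⊓ N ≠ ⊥ := by
    intro h0
    obtain ⟨r, hr, hrd⟩ := Nat.exists_prime_and_dvd T.one_a
    obtain ⟨w, hwB, hw⟩ := exists_prime_order B hr (hB ▸ hrd)
    refine hns (isSolvable_of_isNilpotent (Frobenius.isNilpotent_of_fixedPointFree N
      (MulAut.conjNormal w) ?_ hr ?_))
    · intro g hg
      have hg' : w * (g : G) * w⁻¹ = g := by
        have := congrArg Subtype.val hg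
        rwa [MulAut.conjNormal_apply] at this
      have hgB : (g : G) ∈ B := by
        rw [← hcc w hwB (Ito7.ne_one_of_order hr hw)]
        exact mem_cent.2 (mul_inv_eq_iff_eq_mul.1 hg').symm
      exact Subtype.ext (Subgroup.mem_bot.1 (h0 ▸ ⟨hgB, g.2⟩))
    · rw [← map_pow, ← hw, pow_orderOf_eq_one, map_one]
  obtain ⟨⟨z₀, hz₀⟩, hz₀1'⟩ := Subgroup.ne_bot_iff_exists_ne_one.1 hmeet
  have hz₀1 : z₀ ≠ 1 := fun h => hz₀1' (Subtype.ext h)
  obtain ⟨p, k, hp, hz⟩ := Ito7.exists_prime_power_one hz₀1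
  haveI := Fact.mk hp
  set z := z₀ ^ k with hzdef
  have hzB : z ∈ B := pow_mem hz₀.1 k
  have hzN : z ∈ N := pow_mem hz₀.2 k
  have hz1 := Ito7.ne_one_of_order hp hz
  have hpa : p ∣ a := hB ▸ Ito7.prime_dvd_card hz B hzB
  -- a Sylow subgroup of `N` through `z`
  have hzp : IsPGroup p (Subgroup.zpowers (⟨z, hzN⟩ : N)) :=
    IsPGroup.of_card (n := 1) (by rw [Nat.card_zpowers, Subgroup.orderOf_mk, hz, pow_one])
  obtain ⟨S, hS⟩ := hzp.exists_le_sylow
  have hzS : (⟨z, hzN⟩ : N) ∈ (S : Subgroup N) := hS (Subgroup.mem_zpowers _)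
  -- a Sylow subgroup of `G` in `B`
  have hpB : ¬ p ∣ B.index := by
    intro hd
    have h1 := Subgroup.card_mul_index B
    rw [hB, A.card_eq] at h1
    exact hp.not_dvd_one (T.cop ▸ Nat.dvd_gcd hpa (Nat.eq_of_mul_eq_mul_left T.a_pos h1 ▸ hd))
  obtain ⟨RB⟩ := (inferInstance : Nonempty (Sylow p B))
  let R : Sylow p G := Sylow.ofCard ((RB : Subgroup B).map B.subtype) (by
    rw [Subgroup.card_map_of_injective B.subtype_injective, RB.card_eq_multiplicity]
    congr 1
    rw [← Subgroup.card_mul_index B, Nat.factorization_mul Nat.card_pos.ne'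
      Subgroup.index_ne_zero_of_finite, Finsupp.add_apply,
      Nat.factorization_eq_zero_of_not_dvd hpB, add_zero])
  have hSp : IsPGroup p ((S : Subgroup N).map N.subtype) := S.2.map _
  obtain ⟨R', hR'⟩ := hSp.exists_le_sylow
  obtain ⟨g, hg⟩ := MulAction.exists_smul_eq G R' R
  have hSab : ∀ s ∈ (S : Subgroup N), ∀ t ∈ (S : Subgroup N), Commute (s : G) (t : G) := by
    intro s hs t ht
    have key : ∀ v ∈ (S : Subgroup N), g * (v : G) * g⁻¹ ∈ B := fun v hv => by
      have h1 : g * (v : G) * g⁻¹ ∈ (R : Subgroup G) := by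
        rw [← hg, Sylow.coe_subgroup_smul, Frobenius.mem_conj_smul]
        simpa [mul_assoc] using hR' (Subgroup.mem_map_of_mem _ hv)
      exact Subgroup.map_subtype_le (RB : Subgroup B) h1
    exact (Commute.conj_iff g).1 (hab _ (key s hs) _ (key t ht))
  have hSB : ∀ s ∈ (S : Subgroup N), (s : G) ∈ B := fun s hs => by
    rw [← hcc z hzB hz1]
    exact mem_cent.2 (hSab s hs ⟨z, hzN⟩ hzS)
  -- Burnside's transfer
  obtain ⟨e, heS, heC⟩ : ∃ e : N, e ∈ Subgroup.normalizer ((S : Subgroup N) : Set N) ∧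
      e ∉ Subgroup.centralizer ((S : Subgroup N) : Set N) := by
    by_contra hc
    push Not at hc
    have hle : Subgroup.normalizer ((S : Subgroup N) : Set N) ≤
        Subgroup.centralizer ((S : Subgroup N) : Set N) := fun x hx => hc x hx
    have hcompl := MonoidHom.ker_transferSylow_isComplement' S hle
    set f := MonoidHom.transferSylow S hle
    have hKp : ¬ p ∣ Nat.card f.ker := by
      have h1 := hcompl.card_mul_card
      rw [← Subgroup.card_mul_index (S : Subgroup N), mul_comm] at h1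
      rw [Nat.eq_of_mul_eq_mul_left Nat.card_pos h1]
      exact S.not_dvd_index
    have hK : (f.ker.map N.subtype).Normal := by
      refine ⟨fun x hx h => ?_⟩
      obtain ⟨x, hxK, rfl⟩ := hx
      refine ⟨MulAut.conjNormal h x, ?_, MulAut.conjNormal_apply h x⟩
      have h1 : orderOf (MulAut.conjNormal h x) = orderOf x := MulEquiv.orderOf_eq _ _
      have hd1 : orderOf (f (MulAut.conjNormal h x)) ∣ orderOf x := h1 ▸ orderOf_map_dvd f _
      have hd2 : orderOf (f (MulAut.conjNormal h x)) ∣ Nat.card (S : Subgroup N) :=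
        orderOf_dvd_natCard _
      obtain ⟨i, hi⟩ := S.2.exists_card_eq
      refine MonoidHom.mem_ker.2 (orderOf_eq_one_iff.1 (Nat.eq_one_of_dvd_coprimes ?_ hd1 hd2))
      rw [hi]
      exact Nat.Coprime.pow_right _ (hp.coprime_iff_not_dvd.2 fun h => hKp
        (h.trans (f.ker.orderOf_dvd_natCard hxK))).symm
    rcases hmin _ hK (Subgroup.map_subtype_le _) with h | h
    · rw [Subgroup.map_eq_bot_iff_of_injective _ N.subtype_injective] at h
      rw [h] at hcompl
      refine hns (isSolvable_of_isNilpotent (IsPGroup.isNilpotent (p := p) ?_))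
      have hS' := Subgroup.isComplement'_bot_left.1 hcompl
      exact (hS' ▸ S.2 : IsPGroup p (⊤ : Subgroup N)).of_equiv Subgroup.topEquiv
    · have h' : f.ker = ⊤ := by
        rw [Subgroup.eq_top_iff']
        intro x
        obtain ⟨y, hy, hyx⟩ := (h.symm ▸ x.2 : (x : G) ∈ f.ker.map N.subtype)
        rwa [← Subtype.ext (hyx : (y : G) = x)]
      refine hKp ?_
      rw [h', Subgroup.card_top]
      exact Ito7.prime_dvd_card hz N hzN
  have heB : ∀ y ∈ B, (e : G) * y * (e : G)⁻¹ ∈ B := by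
    intro y hy
    have h1 : (e : G) * z * (e : G)⁻¹ ∈ B :=
      hSB _ ((Subgroup.mem_normalizer_iff.1 heS ⟨z, hzN⟩).1 hzS)
    rw [← hcc _ h1 (fun h => hz1 (conj_eq_one_iff.1 h))]
    exact mem_cent.2 ((Commute.conj_iff _).2 (hab y hy z hzB))
  have heB' : (e : G) ∉ B := fun h => heC (Subgroup.mem_centralizer_iff.2 fun s hs =>
    Subtype.ext (hab _ (hSB s hs) _ h).eq)
  let φ : B → (B ⊓ N : Subgroup G) := fun y => ⟨(e : G) * y * (e : G)⁻¹ * (y : G)⁻¹,
    Subgroup.mem_inf.2 ⟨mul_mem (heB y y.2) (inv_mem y.2), by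
      rw [show (e : G) * y * (e : G)⁻¹ * (y : G)⁻¹ =
        (e : G) * ((y : G) * (e : G)⁻¹ * (y : G)⁻¹) by group]
      exact mul_mem e.2 (hN.conj_mem _ (inv_mem e.2) _)⟩⟩
  have hφ : Function.Injective φ := by
    intro y y' h
    have h' : (e : G) * y * (e : G)⁻¹ * (y : G)⁻¹ = (e : G) * y' * (e : G)⁻¹ * (y' : G)⁻¹ :=
      congrArg Subtype.val h
    by_contra hne
    have hd1 : (y' : G)⁻¹ * y ≠ 1 := fun h0 => hne (Subtype.ext (inv_mul_eq_one.1 h0).symm)
    have hdB : (y' : G)⁻¹ * y ∈ B := mul_mem (inv_mem y'.2) y.2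
    refine heB' ?_
    rw [← hcc _ hdB hd1, mem_cent]
    have hfix : (e : G) * ((y' : G)⁻¹ * y) * (e : G)⁻¹ = (y' : G)⁻¹ * y := by
      have h2 : (e : G) * y * (e : G)⁻¹ = (e : G) * y' * (e : G)⁻¹ * (y' : G)⁻¹ * y := by
        rw [← h']; group
      calc (e : G) * ((y' : G)⁻¹ * y) * (e : G)⁻¹
          = ((e : G) * y' * (e : G)⁻¹)⁻¹ * ((e : G) * y * (e : G)⁻¹) := by group
        _ = (y' : G)⁻¹ * y := by rw [h2]; group
    exact mul_inv_eq_iff_eq_mul.1 hfix
  have hle := Nat.card_le_card_of_injective φ hφ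
  exact (Subgroup.eq_of_le_of_card_ge inf_le_left hle).ge.trans inf_le_right

theorem false_of_no_radical (hR : ∀ N : Subgroup G, N.Normal → Group.IsSolvable N → N = ⊥) :
    False := by
  have T := A.types
  have hkaz : ∀ g : G, g ≠ 1 → ∀ p k : ℕ, p.Prime → n g ≠ p ^ k := by
    intro g hg p k hp h
    have h1 := hR _ Subgroup.normalClosure_normal (Kazarin19.isSolvable_normalClosure g hp h)
    exact hg (Subgroup.mem_bot.1 (h1 ▸ Subgroup.subset_normalClosure (Set.mem_singleton g)))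
  obtain ⟨x₁, hx₁, hx₁a⟩ := T.exa
  obtain ⟨w₁, hw₁, hw₁b⟩ := T.exb
  obtain ⟨p, hp, hpa⟩ := Nat.exists_prime_and_dvd T.one_a
  obtain ⟨q, hq, hqa, hqp⟩ := Ito7.exists_second_prime (p := p) T.a_pos.ne'
    (fun k h => hkaz x₁ hx₁ p k hp (hx₁a.trans h))
  obtain ⟨B, hB, hab, hcc⟩ := A.exists_B hp hq (Ne.symm hqp) hpa hqa
  have hker := fun N hN hne => A.B_le hR hB hab hcc (M := N) hN hne
  have fixed : ∀ x y : G, x ≠ 1 → n x = a → y ≠ 1 → n y = a →
      Nat.card (MulAction.fixedBy (G ⧸ cent x) y) = 1 := by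
    intro x y hx hxa hy hya
    refine card_fixedBy_eq_one hker hab hcc hp hq (Ne.symm hqp) (hB.symm ▸ hpa) (hB.symm ▸ hqa)
      (hB.symm ▸ A.coprime_card_a hx hxa) (hxa.trans hB.symm) (fun hc => ?_) (hya.trans hB.symm)
    rw [T.center, Subgroup.mem_bot] at hc
    exact hy hc
  -- commuting elements of type `a`
  have hcomm : ∀ x y : G, x ≠ 1 → n x = a → y ≠ 1 → n y = a → Commute x y → cent y = cent x := by
    intro x y hx hxa hy hya hc
    have h1 := fixed x y hx hxa hy hya
    haveI := (Nat.card_eq_one_iff_unique.1 h1).1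
    have hle : cent y ≤ cent x := by
      intro k hk
      have hfix : ∀ g : G, g⁻¹ * y * g = y →
          ((g : G ⧸ cent x)) ∈ MulAction.fixedBy (G ⧸ cent x) y := by
        intro g hg
        show y • (g : G ⧸ cent x) = g
        rw [MulAction.Quotient.smul_coe, smul_eq_mul, eq_comm, QuotientGroup.eq, ← mul_assoc, hg]
        exact mem_cent.2 hc.symm
      have e' := congrArg Subtype.val
        (Subsingleton.elim (α := MulAction.fixedBy (G ⧸ cent x) y)
          ⟨_, hfix 1 (by simp)⟩ ⟨_, hfix k (by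
            rw [mul_assoc, ← (mem_cent.1 hk).eq, inv_mul_cancel_left])⟩)
      simpa using QuotientGroup.eq.1 e'
    exact cent_eq_of_le hle (hya.trans hxa.symm)
  have hFC : Cfsg.IsFrobeniusComplement (cent x₁) := by
    refine ⟨fun h => hx₁ (by simpa [h] using self_mem_cent x₁), T.cent_ne_top hx₁, fun g hg => ?_⟩
    rw [Subgroup.eq_bot_iff_forall]
    rintro u₀ ⟨hu0, hu0'⟩
    by_contra hu01
    replace hu0' := Frobenius.mem_conj_smul.1 hu0'
    set x' := g * x₁ * g⁻¹ with hx'def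
    have hx' : x' ≠ 1 := fun h => hx₁ (conj_eq_one_iff.1 h)
    have hx'a : n x' = a := (Ito7.index_cent_conj g x₁).trans hx₁a
    have hne : cent x' ≠ cent x₁ := by
      intro e
      apply hg
      have h1 := fixed x₁ x₁ hx₁ hx₁a hx₁ hx₁a
      haveI := (Nat.card_eq_one_iff_unique.1 h1).1
      have hfix : ∀ h : G, h⁻¹ * x₁ * h ∈ cent x₁ →
          ((h : G ⧸ cent x₁)) ∈ MulAction.fixedBy (G ⧸ cent x₁) x₁ := by
        intro h hh
        show x₁ • (h : G ⧸ cent x₁) = h
        rw [MulAction.Quotient.smul_coe, smul_eq_mul, eq_comm, QuotientGroup.eq, ← mul_assoc]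
        exact hh
      have e' := congrArg Subtype.val
        (Subsingleton.elim (α := MulAction.fixedBy (G ⧸ cent x₁) x₁)
          ⟨_, hfix 1 (by simpa using self_mem_cent x₁)⟩ ⟨_, hfix g (by
            rw [mem_cent, ← Commute.conj_iff g,
              show g * (g⁻¹ * x₁ * g) * g⁻¹ = x₁ by group, ← hx'def]
            exact (mem_cent.1 (e ▸ self_mem_cent x' : x' ∈ cent x₁)).symm)⟩)
      simpa using QuotientGroup.eq.1 e'
    obtain ⟨r, k, hr, hk⟩ := Ito7.exists_prime_power_one hu01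
    set u := u₀ ^ k with hudef
    have hu1 := Ito7.ne_one_of_order hr hk
    have hua : Commute u x₁ := (mem_cent.1 hu0).pow_left k
    have hua' : Commute u x' := by
      have h := (Commute.conj_iff g).2 (mem_cent.1 hu0')
      rw [show g * (g⁻¹ * u₀ * g) * g⁻¹ = u₀ by group] at h
      exact h.pow_left k
    -- elements of type `a` centralizing `cent u`
    have fin : ∀ w : G, w ≠ 1 → n w = a → cent u ≤ cent w → False := fun w hw hwa hle =>
      hne ((hcomm w x' hw hwa hx' hx'a (mem_cent.1 (hle (mem_cent.2 hua'.symm))).symm).trans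
        (hcomm w x₁ hw hwa hx₁ hx₁a (mem_cent.1 (hle (mem_cent.2 hua.symm))).symm).symm)
    rcases T.cases u hu1 with e | e | e
    · exact fin u hu1 e le_rfl
    · exact A.apart x₁ u hx₁ hu1 hx₁a e hua.symm
    -- `cent u` is minimal
    have hmin : ∀ v : G, n v = c → ∀ w : G, Commute v w → v ≠ 1 →
        (orderOf v).Coprime (orderOf w) → cent v ≤ cent w := by
      intro v hv w hvw hv1 hcop
      have hle := cent_mul hvw hcop
      have hm : n (v * w) = c := by
        have hd := (Types.dvd_mul_coprime T hvw hcop).1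
        rw [hv] at hd
        rcases T.cases _ (Ito7.mul_ne_one_of_coprime hv1 hcop) with e' | e' | e' <;> rw [e'] at hd
        exacts [absurd hd T.nca, absurd hd T.ncb, e']
      exact (cent_eq_of_le (hle.le.trans inf_le_left) (hm.trans hv.symm)) ▸ hle.le.trans inf_le_right
    obtain ⟨s1, i, hs1, hs1', ha1⟩ := T.exists_prime_a hx₁ hx₁a
    set x1 := x₁ ^ i with hx1def
    have hx11 := Ito7.ne_one_of_order hs1 hs1'
    have hu_1 : Commute u x1 := hua.pow_right i
    by_cases h1r : s1 = r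
    swap
    · exact fin x1 hx11 ha1 (hmin u e x1 hu_1 hu1
        (by rw [hk, hs1']; exact (Nat.coprime_primes hr hs1).2 (Ne.symm h1r)))
    subst h1r
    obtain ⟨s, hs, hsd, hsr⟩ := Ito7.exists_second_prime (p := s1) T.b_pos.ne'
      (fun j h => hkaz w₁ hw₁ s1 j hs1 (hw₁b.trans h))
    haveI := Fact.mk hs
    have hsa : ¬ s ∣ a := fun h => hs.not_dvd_one (T.cop ▸ Nat.dvd_gcd h hsd)
    obtain ⟨v, hvx, hv⟩ := exists_prime_order (cent x₁) hs (by
      rw [A.card_cent_a hx₁ hx₁a]; exact hsd)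
    have hv1 := Ito7.ne_one_of_order hs hv
    obtain ⟨w, hwu, hw⟩ : ∃ w ∈ cent u, orderOf w = s := by
      rcases T.cases v hv1 with ev | ev | ev
      · exact ⟨v, hcomm v x₁ hv1 ev hx₁ hx₁a (mem_cent.1 hvx) ▸ mem_cent.2 hua |> fun h =>
          mem_cent.2 (mem_cent.1 h).symm, hv⟩
      · exact absurd ev (A.not_b_of_order hs hv hsa)
      · refine exists_prime_order _ hs ?_
        rw [card_cent_eq (e.trans ev.symm)]
        exact Ito7.prime_dvd_card hv _ (self_mem_cent v)
    have hw1 := Ito7.ne_one_of_order hs hw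
    have hwu' : Commute u w := (mem_cent.1 hwu).symm
    have hle : cent u ≤ cent w := hmin u e w hwu' hu1
      (by rw [hk, hw]; exact (Nat.coprime_primes hr hs).2 (Ne.symm hsr))
    rcases T.cases w hw1 with ew | ew | ew
    · exact fin w hw1 ew hle
    · exact A.not_b_of_order hs hw hsa ew
    · have hwx1 : Commute w x1 := (mem_cent.1 (hle (mem_cent.2 hu_1.symm))).symm
      refine fin x1 hx11 ha1 (hle.trans (hmin w ew x1 hwx1 hw1 ?_))
      rw [hw, hs1']; exact (Nat.coprime_primes hs hs1).2 hsr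
  obtain ⟨N, -, hN, hcompl⟩ := Frobenius.exists_frobeniusKernel_subgroup hFC
  have hNc : Nat.card N = a := by
    have h1 := hcompl.card_mul_card
    rw [← card_cent_mul x₁, hx₁a, mul_comm] at h1
    exact Nat.eq_of_mul_eq_mul_left Nat.card_pos h1
  have hN1 : N ≠ ⊥ := fun h => T.one_a (by rw [← hNc, h, Subgroup.card_bot])
  have hNB : B = N := Subgroup.eq_of_le_of_card_ge (hker N hN hN1) (by rw [hB, hNc])
  refine hN1 (hR N hN ?_)
  subst hNB
  haveI : IsMulCommutative B := ⟨⟨fun x y => Subtype.ext (hab _ x.2 _ y.2).eq⟩⟩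
  letI : CommGroup B := IsMulCommutative.instCommGroup
  infer_instance

end Apart

end Cfsg.Agent.ThreeSize7
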